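import Mathlib
import Cfsg.Agent.Lib.Techniques.FusionInduction

/-!
Choice of a pair of generators not inside a given subgroup `Γ₀`: `K` is taken maximal among the
`p`-subgroups of `Γ₀` generated by marked elements with normalizer outside `Γ₀`.
-/

set_option autoImplicit false
set_option linter.unusedSectionVars false

namespace CfsgLib.LocalEven.ZJWeight

open Subgroup CfsgLib.Techniques

variable {Γ : Type*} [Group Γ] [Finite Γ] {p : ℕ} [Fact p.Prime]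

/-- `T` is generated by its marked elements. -/
def Gen (Φ : Set Γ) (T : Subgroup Γ) : Prop := T ≤ closure (Φ ∩ T)

theorem closure_inter_le (Φ : Set Γ) (T : Subgroup Γ) : closure (Φ ∩ T) ≤ T :=
  (closure_le _).2 Set.inter_subset_right

theorem gen_closure (Φ : Set Γ) (A : Set Γ) (hA : A ⊆ Φ) : Gen Φ (closure A) :=
  (closure_le _).2 fun _ hx => subset_closure ⟨hA hx, subset_closure hx⟩

theorem conj_closure_inter {Φ : Set Γ} (hΦ : ∀ a ∈ Φ, ∀ g, g * a * g⁻¹ ∈ Φ) {T : Subgroup Γ} {g : Γ}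
    (hg : g ∈ normalizer (T : Set Γ)) : g ∈ normalizer ((closure (Φ ∩ T) : Subgroup Γ) : Set Γ) := by
  refine map_conj_eq_self_iff.1 (eq_of_le_of_card_ge ?_ (card_map_conj _ g).ge)
  rw [MonoidHom.map_closure, closure_le]
  rintro _ ⟨x, ⟨hx, hxT⟩, rfl⟩
  exact subset_closure ⟨hΦ x hx g, (mem_normalizer_iff.1 hg x).1 hxT⟩

/-- Marked elements outside `T₀` normalize it, unless there are none. -/
theorem exists_marked {Φ : Set Γ} (hΦ : ∀ a ∈ Φ, ∀ g, g * a * g⁻¹ ∈ Φ) {T T₀ : Subgroup Γ}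
    (hT : IsPGroup p T) (hT₀ : T₀ ≤ T) (h : ¬ Φ ∩ T ⊆ T₀) (hgen : Gen Φ T₀) :
    ∃ a ∈ Φ, a ∈ T ∧ a ∈ normalizer (T₀ : Set Γ) ∧ a ∉ T₀ := by
  by_contra hcon
  push Not at hcon
  set N₁ := T ⊓ normalizer (T₀ : Set Γ) with hN₁
  have heq : closure (Φ ∩ N₁) = T₀ := by
    refine le_antisymm ((closure_le _).2 ?_) (hgen.trans (Subgroup.closure_mono ?_))
    · rintro x ⟨hx, hxT, hxN⟩
      exact hcon x hx hxT hxN
    · exact Set.inter_subset_inter_right _ fun x hx => ⟨hT₀ hx, le_normalizer hx⟩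
  have hNT : N₁ = T := by
    by_contra hne
    refine (Fusion.lt_inf_normalizer hT (lt_of_le_of_ne inf_le_left hne)).not_ge ?_
    intro x hx
    refine ⟨hx.1, ?_⟩
    have := conj_closure_inter hΦ hx.2
    rwa [heq] at this
  refine h fun x hx => ?_
  rw [← heq, hNT]
  exact subset_closure hx

variable (Φ : Set Γ)

/-- A pair of marked conjugates, generating neither a `p`-group nor a subgroup of `Γ₀`. -/
theorem exists_pair (hΦ : ∀ a ∈ Φ, ∀ g, g * a * g⁻¹ ∈ Φ) (Γ₀ P : Subgroup Γ) (hne : Γ₀ ≠ ⊤)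
    (hP : IsPGroup p P) (hPΓ : P ≤ Γ₀) (hzp : ∀ a ∈ Φ, IsPGroup p (zpowers a))
    (hsyl : ∀ Q ≤ Γ₀, IsPGroup p Q → ∃ γ ∈ Γ₀, Q.map (MulAut.conj γ).toMonoidHom ≤ P)
    (hN : normalizer ((closure (Φ ∩ P) : Subgroup Γ) : Set Γ) ≤ Γ₀) :
    ∃ (K : Subgroup Γ) (a b : Γ), a ∈ Φ ∧ b ∈ Φ ∧ a ∈ Γ₀ ∧ ¬ IsPGroup p (closure ({a, b} : Set Γ)) ∧
      ¬ closure ({a, b} : Set Γ) ≤ Γ₀ ∧ (∃ γ ∈ Γ₀, γ * a * γ⁻¹ ∈ P) ∧
        closure ({a, b} : Set Γ) ≤ normalizer (K : Set Γ) ∧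
      ∀ Q ≤ closure ({a, b} : Set Γ), IsPGroup p Q → a ∈ Q →
        closure (Φ ∩ Q) ≤ Γ₀ ∧
          ∀ g ∈ normalizer (K : Set Γ), g ∈ normalizer (Q : Set Γ) → g ∈ Γ₀ := by
  classical
  -- the maximal subgroup
  obtain ⟨K, ⟨hKp, hKg, hKΓ, hKN⟩, hKmax⟩ := Set.exists_max_image
    {K : Subgroup Γ | IsPGroup p K ∧ Gen Φ K ∧ K ≤ Γ₀ ∧ ¬ normalizer (K : Set Γ) ≤ Γ₀}
    (fun K => Nat.card K) (Set.toFinite _)
    ⟨⊥, IsPGroup.of_bot, bot_le, bot_le, fun h => hne (top_le_iff.1 (by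
      rwa [Subgroup.normalizer_eq_top (⊥ : Subgroup Γ)] at h))⟩
  have hmax : ∀ T : Subgroup Γ, IsPGroup p T → Gen Φ T → T ≤ Γ₀ → K < T → normalizer (T : Set Γ) ≤ Γ₀ := by
    intro T hT hTg hTΓ hlt
    by_contra h
    exact (Fusion.card_lt_of_lt hlt).not_ge (hKmax T ⟨hT, hTg, hTΓ, h⟩)
  -- the chain
  have hchain : ∀ T : Subgroup Γ, IsPGroup p T → K ≤ T → ∀ c ∈ Φ, c ∈ T → c ∈ Γ₀ → c ∉ K →
      closure (Φ ∩ T) ≤ Γ₀ := by
    intro T hT hKT c hc hcT hcΓ hcK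
    by_contra hcon
    set T₀ := closure (Φ ∩ (T ⊓ Γ₀ : Subgroup Γ)) with hT₀
    have hT₀le : T₀ ≤ T ⊓ Γ₀ := closure_inter_le _ _
    have hKT₀ : K ≤ T₀ := hKg.trans (Subgroup.closure_mono (Set.inter_subset_inter_right _ fun x hx =>
      ⟨hKT hx, hKΓ hx⟩))
    have hlt : K < T₀ := lt_of_le_of_ne hKT₀ fun e =>
      hcK (e ▸ subset_closure ⟨hc, hcT, hcΓ⟩)
    have hg₀ : Gen Φ T₀ := gen_closure _ _ Set.inter_subset_left
    obtain ⟨d, hd, hdT, hdN, hdn⟩ := exists_marked hΦ hT (hT₀le.trans inf_le_left) (fun h => hcon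
      ((closure_le _).2 fun x hx => (hT₀le (h hx)).2)) hg₀
    exact hdn (subset_closure ⟨hd, hdT, hmax T₀ (hT.to_le (hT₀le.trans inf_le_left)) hg₀
      (hT₀le.trans inf_le_right) hlt hdN⟩)
  -- an element to start with
  obtain ⟨a, haΦ, haΓ, haP, haN, haK⟩ : ∃ a ∈ Φ, a ∈ Γ₀ ∧ (∃ γ ∈ Γ₀, γ * a * γ⁻¹ ∈ P) ∧
      a ∈ normalizer (K : Set Γ) ∧ a ∉ K := by
    obtain ⟨γ, hγ, hγK⟩ := hsyl K hKΓ hKp
    set K' := K.map (MulAut.conj γ).toMonoidHom with hK'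
    set P' := closure (Φ ∩ P) with hP'
    have hK'g : Gen Φ K' := by
      refine (Subgroup.map_mono hKg).trans ?_
      rw [MonoidHom.map_closure]
      refine Subgroup.closure_mono ?_
      rintro _ ⟨x, ⟨hx, hxK⟩, rfl⟩
      exact ⟨hΦ x hx γ, ⟨x, hxK, rfl⟩⟩
    have hK'P : K' ≤ P' := hK'g.trans (Subgroup.closure_mono (Set.inter_subset_inter_right _ hγK))
    obtain ⟨c, hc, hcP, hcN, hcK⟩ := exists_marked hΦ hP hγK (fun h => hKN fun g hg => by
      have e : K' = P' := le_antisymm hK'P ((closure_le _).2 h)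
      have hg' : γ * g * γ⁻¹ ∈ Γ₀ := by
        refine hN ?_
        rw [← e]
        exact Fusion.map_conj_normalizer_le K γ ⟨g, hg, rfl⟩
      have := mul_mem (mul_mem (inv_mem hγ) hg') hγ
      simpa [mul_assoc] using this) hK'g
    refine ⟨γ⁻¹ * c * γ, by simpa using hΦ c hc γ⁻¹, mul_mem (mul_mem (inv_mem hγ) (hPΓ hcP)) hγ,
      ⟨γ, hγ, by simpa [mul_assoc] using hcP⟩, ?_, fun h => hcK ?_⟩
    · have := Fusion.map_conj_normalizer_le K' γ⁻¹ ⟨c, hcN, rfl⟩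
      rw [hK', Fusion.map_conj_inv_cancel] at this
      simpa using this
    · exact ⟨_, h, by simp [mul_assoc]⟩
  by_contra hcon
  set Y := normalizer (K : Set Γ) with hY
  have hpair : ∀ y ∈ Y, closure ({a, y * a * y⁻¹} : Set Γ) ≤ Y := fun y hy => (closure_le _).2 (by
    rintro x (rfl | rfl)
    · exact haN
    · exact mul_mem (mul_mem hy haN) (inv_mem hy))
  have hsup : ∀ Q : Subgroup Γ, IsPGroup p Q → Q ≤ Y → IsPGroup p (K ⊔ Q : Subgroup Γ) :=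
    fun Q hQ hQY => hKp.to_sup_of_normal_left' hQ hQY
  have hfull : ∀ Q : Subgroup Γ, IsPGroup p Q → Q ≤ Y → a ∈ Q → closure (Φ ∩ Q) ≤ Γ₀ := by
    intro Q hQ hQY haQ
    exact (Subgroup.closure_mono (Set.inter_subset_inter_right _ (le_sup_right (a := K)))).trans
      (hchain _ (hsup Q hQ hQY) le_sup_left a haΦ (le_sup_right (α := Subgroup Γ) (a := K) haQ) haΓ haK)
  -- all conjugates of `a` lie in `Γ₀`
  have hconj : ∀ y ∈ Y, y * a * y⁻¹ ∈ Γ₀ := by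
    intro y hy
    set L := closure ({a, y * a * y⁻¹} : Set Γ) with hL
    have hb : y * a * y⁻¹ ∈ L := subset_closure (Set.mem_insert_of_mem _ rfl)
    have haL : a ∈ L := subset_closure (Set.mem_insert _ _)
    by_cases hp : IsPGroup p L
    · exact hfull L hp (hpair y hy) haL (subset_closure ⟨hΦ a haΦ y, hb⟩)
    · by_cases hle : L ≤ Γ₀
      · exact hle hb
      refine absurd ⟨K, a, y * a * y⁻¹, haΦ, hΦ a haΦ y, haΓ, hp, hle, haP, hpair y hy, ?_⟩ hcon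
      intro Q hQ hQp haQ
      refine ⟨hfull Q hQp (hQ.trans (hpair y hy)) haQ, fun g hgK hgQ => ?_⟩
      set T := K ⊔ closure (Φ ∩ Q) with hT
      refine hmax T (hsup _ (hQp.to_le (closure_inter_le _ _)) ((closure_inter_le _ _).trans (hQ.trans (hpair y hy))))
        ?_ (sup_le hKΓ (hfull Q hQp (hQ.trans (hpair y hy)) haQ)) ?_ ?_
      · refine sup_le (hKg.trans (Subgroup.closure_mono (Set.inter_subset_inter_right _ fun x hx => le_sup_left (α := Subgroup Γ) hx))) ?_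
        exact (closure_le _).2 fun x hx => subset_closure ⟨hx.1, le_sup_right (α := Subgroup Γ) (a := K)
          (subset_closure hx)⟩
      · exact lt_of_le_of_ne le_sup_left fun e => haK (e.ge (le_sup_right (α := Subgroup Γ) (a := K)
          (subset_closure ⟨haΦ, haQ⟩)))
      · rw [← map_conj_eq_self_iff, Subgroup.map_sup, map_conj_eq_self_iff.2 hgK,
          map_conj_eq_self_iff.2 (conj_closure_inter hΦ hgQ)]
  -- Frattini argument in `Y`
  set N₂ := K ⊔ closure {x | ∃ y ∈ Y, y * a * y⁻¹ = x} with hN₂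
  have hN₂Γ : N₂ ≤ Γ₀ := sup_le hKΓ ((closure_le _).2 (by rintro _ ⟨y, hy, rfl⟩; exact hconj y hy))
  have hN₂Y : ∀ g ∈ Y, g ∈ normalizer (N₂ : Set Γ) := by
    intro g hg
    rw [← map_conj_eq_self_iff]
    refine eq_of_le_of_card_ge ?_ (card_map_conj _ g).ge
    rw [hN₂, Subgroup.map_sup, map_conj_eq_self_iff.2 hg, MonoidHom.map_closure]
    refine sup_le_sup_left (Subgroup.closure_mono ?_) _
    rintro _ ⟨_, ⟨y, hy, rfl⟩, rfl⟩
    exact ⟨g * y, mul_mem hg hy, by simp [mul_assoc]⟩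
  have haN₂ : a ∈ N₂ := le_sup_right (α := Subgroup Γ) (a := K) (subset_closure ⟨1, one_mem _, by simp⟩)
  have hKap : IsPGroup p (K ⊔ zpowers a : Subgroup Γ) := by
    exact hsup _ (hzp a haΦ) (zpowers_le.2 haN)
  obtain ⟨P₂, hP₂⟩ := (hKap.of_equiv (subgroupOfEquivOfLe
    (sup_le le_sup_left (zpowers_le.2 haN₂) : K ⊔ zpowers a ≤ N₂)).symm).exists_le_sylow
  set Q₂ := (P₂ : Subgroup N₂).map N₂.subtype with hQ₂
  have hQ₂p : IsPGroup p Q₂ := P₂.2.map _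
  have hQ₂ge : K ⊔ zpowers a ≤ Q₂ := fun x hx => ⟨⟨x,
    (sup_le le_sup_left (zpowers_le.2 haN₂) : K ⊔ zpowers a ≤ N₂) hx⟩, hP₂ hx, rfl⟩
  set T₂ := closure (Φ ∩ Q₂) with hT₂
  have hT₂N : normalizer (T₂ : Set Γ) ≤ Γ₀ := by
    refine hmax T₂ (hQ₂p.to_le (closure_inter_le _ _)) (gen_closure _ _ Set.inter_subset_left)
      ((closure_inter_le _ _).trans ((map_subtype_le _).trans hN₂Γ)) (lt_of_le_of_ne ?_ fun e => haK ?_)
    · exact hKg.trans (Subgroup.closure_mono (Set.inter_subset_inter_right _ fun x hx => hQ₂ge (le_sup_left (α := Subgroup Γ) hx)))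
    · rw [e]; exact subset_closure ⟨haΦ, hQ₂ge (le_sup_right (α := Subgroup Γ) (a := K) (mem_zpowers a))⟩
  refine hKN fun g hg => ?_
  have hidx : ¬ p ∣ Q₂.relIndex N₂ := by
    rw [relIndex, subgroupOf, hQ₂, comap_map_eq_self_of_injective N₂.subtype_injective]
    exact P₂.not_dvd_index
  have hle : Q₂.map (MulAut.conj g).toMonoidHom ≤ N₂ := by
    rw [← map_conj_eq_self_iff.2 (hN₂Y g hg)]
    exact Subgroup.map_mono (map_subtype_le _)
  obtain ⟨n, hn, hnle⟩ := exists_conj_le_sylow_of (S := Q₂) hle (isPGroup_map_conj hQ₂p g)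
    (map_subtype_le _) hQ₂p hidx
  have hng : n * g ∈ normalizer (Q₂ : Set Γ) := by
    rw [← map_conj_eq_self_iff]
    refine eq_of_le_of_card_ge ?_ (card_map_conj _ _).ge
    rw [map_conj_mul]; exact hnle
  have h := hT₂N (conj_closure_inter hΦ hng)
  simpa [mul_assoc] using mul_mem (inv_mem (hN₂Γ hn)) h

end CfsgLib.LocalEven.ZJWeight
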