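import Cfsg.Agent.Lib.PLocal.NaturalModule
import Cfsg.Agent.Lib.LocalEven.ZJWeight.Pair

/-!
Two quadratic elements and a vector fixed by the first: an equivariant map onto the natural module of
`SL(2, p)` for the preimage of a Borel subgroup, which normalizes a Sylow subgroup.
-/

set_option autoImplicit false
set_option linter.unusedSectionVars false

open scoped MatrixGroups

namespace CfsgLib.LocalEven.ZJWeight

open Subgroup Matrix CfsgLib.SL2Unipotent CfsgLib.Techniques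

universe u v

section SL2

variable {K : Type*} [Field K]

theorem fin_two_ext {x y : SL(2, K)} (h00 : x.1 0 0 = y.1 0 0) (h01 : x.1 0 1 = y.1 0 1)
    (h10 : x.1 1 0 = y.1 1 0) (h11 : x.1 1 1 = y.1 1 1) : x = y :=
  CfsgLib.PLocal.SLTwo.ext_entries h00 h01 h10 h11

/-- The upper triangular matrices. -/
def borel (K : Type*) [Field K] : Subgroup SL(2, K) where
  carrier := {g | g.1 1 0 = 0}
  one_mem' := by simp
  mul_mem' := by
    intro a b (ha : a.1 1 0 = 0) (hb : b.1 1 0 = 0)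
    show (a * b).1 1 0 = 0
    simp [Matrix.mul_apply, Fin.sum_univ_two, ha, hb]
  inv_mem' := by
    intro a (ha : a.1 1 0 = 0)
    show (a⁻¹).1 1 0 = 0
    simp [Matrix.SpecialLinearGroup.coe_inv, Matrix.adjugate_fin_two, ha]

theorem mem_borel {g : SL(2, K)} : g ∈ borel K ↔ g.1 1 0 = 0 := Iff.rfl

/-- The upper unitriangular matrices. -/
def unip (K : Type*) [Field K] : Subgroup SL(2, K) where
  carrier := {g | g.1 1 0 = 0 ∧ g.1 0 0 = 1}
  one_mem' := by simp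
  mul_mem' := by
    rintro a b ⟨ha, ha'⟩ ⟨hb, hb'⟩
    constructor <;> simp [Matrix.mul_apply, Fin.sum_univ_two, ha, hb, ha', hb']
  inv_mem' := by
    rintro a ⟨ha, ha'⟩
    have := CfsgLib.PLocal.SLTwo.det_eq a
    rw [ha, ha', mul_zero, sub_zero, one_mul] at this
    constructor <;> simp [Matrix.SpecialLinearGroup.coe_inv, Matrix.adjugate_fin_two, ha, this]

theorem mem_unip {g : SL(2, K)} : g ∈ unip K ↔ g.1 1 0 = 0 ∧ g.1 0 0 = 1 := Iff.rfl

theorem unip_one_one {g : SL(2, K)} (hg : g ∈ unip K) : g.1 1 1 = 1 := by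
  have := CfsgLib.PLocal.SLTwo.det_eq g
  rwa [hg.1, hg.2, mul_zero, sub_zero, one_mul] at this

theorem conj_mem_unip {g u : SL(2, K)} (hg : g ∈ borel K) (hu : u ∈ unip K) : g * u * g⁻¹ ∈ unip K := by
  have h10 : g.1 1 0 = 0 := hg
  have hd := CfsgLib.PLocal.SLTwo.det_eq g
  rw [h10, mul_zero, sub_zero] at hd
  obtain ⟨hu1, hu0⟩ := hu
  refine ⟨?_, ?_⟩
  · simp [Matrix.mul_apply, Fin.sum_univ_two, Matrix.SpecialLinearGroup.coe_inv, Matrix.adjugate_fin_two, h10, hu1]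
  · simp [Matrix.mul_apply, Fin.sum_univ_two, Matrix.SpecialLinearGroup.coe_inv, Matrix.adjugate_fin_two, h10, hu1,
      hu0, hd]

variable {p : ℕ} [hp : Fact p.Prime] [CharP K p]

theorem unip_pow {g : SL(2, K)} (hg : g ∈ unip K) : g ^ p = 1 := by
  have key : ∀ n : ℕ, (g ^ n).1 0 1 = n * g.1 0 1 ∧ g ^ n ∈ unip K := by
    intro n
    induction n with
    | zero => simp [one_mem]
    | succ n ih =>
      refine ⟨?_, pow_mem hg _⟩
      rw [pow_succ, Matrix.SpecialLinearGroup.coe_mul, Matrix.mul_apply, Fin.sum_univ_two, ih.1, ih.2.2,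
        unip_one_one hg]
      push_cast; ring
  refine fin_two_ext ?_ ?_ ?_ ?_
  · simpa using (key p).2.2
  · simpa using (key p).1
  · simpa using (key p).2.1
  · simpa using unip_one_one (key p).2

theorem eq_one_of_pow {s : K} {k : ℕ} (h : s ^ p ^ k = 1) : s = 1 :=
  sub_eq_zero.1 (eq_zero_of_pow_eq_zero (n := p ^ k) (by rw [sub_pow_char_pow, h, one_pow, sub_self]))

theorem pow_entry {g : SL(2, K)} (hg : g ∈ borel K) (n : ℕ) : (g ^ n).1 0 0 = g.1 0 0 ^ n := by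
  induction n with
  | zero => simp
  | succ n ih =>
    have h := pow_mem hg n
    have hg' : g.1 1 0 = 0 := hg
    rw [pow_succ, Matrix.SpecialLinearGroup.coe_mul, Matrix.mul_apply, Fin.sum_univ_two, ih, hg', mul_zero,
      add_zero, ← pow_succ]

/-- An element commuting with a nontrivial upper unitriangular element. -/
theorem borel_of_commute {g z : SL(2, K)} (hz : z ∈ unip K) (hz1 : z ≠ 1) (h : g * z = z * g) :
    g ∈ borel K ∧ g.1 0 0 = g.1 1 1 := by
  have hr : z.1 0 1 ≠ 0 := fun h0 => hz1 (fin_two_ext (by simpa using hz.2) (by simpa using h0)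
    (by simpa using hz.1) (by simpa using unip_one_one hz))
  have e00 := congrArg (fun x : SL(2, K) => x.1 0 0) h
  have e01 := congrArg (fun x : SL(2, K) => x.1 0 1) h
  simp [Matrix.mul_apply, Fin.sum_univ_two, hz.1, hz.2, unip_one_one hz] at e00 e01
  refine ⟨e00.resolve_left hr, ?_⟩
  exact mul_left_cancel₀ hr (show z.1 0 1 * g.1 0 0 = z.1 0 1 * g.1 1 1 by linear_combination e01)

/-- A `p`-group containing a nontrivial upper unitriangular element consists of such elements. -/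
theorem le_unip {Q : Subgroup SL(2, K)} [Finite Q] (hQ : IsPGroup p Q) {u : SL(2, K)} (hu : u ∈ unip K)
    (hu1 : u ≠ 1) (huQ : u ∈ Q) : Q ≤ unip K := by
  haveI : Nontrivial Q := ⟨⟨⟨u, huQ⟩, 1, fun e => hu1 (congrArg Subtype.val e)⟩⟩
  haveI := hQ.center_nontrivial
  obtain ⟨⟨z, hzc⟩, hz1⟩ := exists_ne (1 : Subgroup.center Q)
  have hz1' : (z : SL(2, K)) ≠ 1 := fun e => hz1 (Subtype.ext (Subtype.ext e))
  have hcomm : ∀ g : Q, (g : SL(2, K)) * z = z * g := fun g =>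
    congrArg Subtype.val (Subgroup.mem_center_iff.1 hzc g)
  have hone : ∀ g : Q, (g : SL(2, K)) ∈ borel K → (g : SL(2, K)) ∈ unip K := by
    intro g hg
    obtain ⟨k, hk⟩ := hQ g
    have e : (g : SL(2, K)) ^ p ^ k = 1 := by simpa using congrArg Subtype.val hk
    refine ⟨hg, eq_one_of_pow (k := k) (p := p) ?_⟩
    rw [← pow_entry hg, e]; simp
  have hzu : (z : SL(2, K)) ∈ unip K := hone z (borel_of_commute hu hu1 (hcomm ⟨u, huQ⟩).symm).1
  intro g hg
  exact hone ⟨g, hg⟩ (borel_of_commute hzu hz1' (hcomm ⟨g, hg⟩)).1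

end SL2

variable {p : ℕ} [hp : Fact p.Prime] {L : Type u} [Group L] [Finite L]

instance : CharP (AlgebraicClosure (ZMod p)) p :=
  charP_of_injective_algebraMap (algebraMap (ZMod p) (AlgebraicClosure (ZMod p))).injective p

local notation "𝕂" => AlgebraicClosure (ZMod p)

theorem exists_functional {W : Type v} [AddCommGroup W] [Module (ZMod p) W] [FiniteDimensional (ZMod p) W]
    (ρ : L →* Module.End (ZMod p) W) {a b : L} (hgen : Subgroup.closure ({a, b} : Set L) = ⊤)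
    (ha : (ρ a - 1) * (ρ a - 1) = 0) (hb : (ρ b - 1) * (ρ b - 1) = 0) {v : W} (hva : ρ a v = v)
    (hspan : Submodule.span (ZMod p) (Set.range fun h => ρ h v) = ⊤) (hn : ∃ d, ¬ IsNilpotent (ρ d - 1)) :
    ∃ (μ : 𝕂) (φ : L →* SL(2, 𝕂)) (π : W →ₗ[ZMod p] (Fin 2 → 𝕂)), μ ≠ 0 ∧ φ a = up μ ∧ φ b = low 1 ∧
      (∀ h w, π (ρ h w) = (φ h).1 *ᵥ π w) ∧ π v 0 ≠ 0 ∧ π v 1 = 0 := by
  set n := Module.finrank (ZMod p) W
  set bW := Module.finBasis (ZMod p) W
  let alg := algebraMap (ZMod p) 𝕂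
  let M : L →* Matrix (Fin n) (Fin n) 𝕂 :=
    (alg.mapMatrix.toMonoidHom.comp (LinearMap.toMatrixAlgEquiv bW).toMonoidHom).comp ρ
  have hMinj : Function.Injective fun x : Module.End (ZMod p) W =>
      alg.mapMatrix (LinearMap.toMatrixAlgEquiv bW x) :=
    (Matrix.map_injective alg.injective).comp (LinearMap.toMatrixAlgEquiv bW).injective
  let σ : L →* Module.End 𝕂 (Fin n → 𝕂) :=
    { toFun := fun h => Matrix.toLinAlgEquiv' (M h⁻¹)ᵀ
      map_one' := by simp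
      map_mul' := fun x y => by rw [_root_.mul_inv_rev, map_mul, Matrix.transpose_mul, map_mul] }
  have hq : ∀ c : L, (ρ c - 1) * (ρ c - 1) = 0 → (σ c - 1) * (σ c - 1) = 0 := by
    intro c hc
    have e : ρ c⁻¹ - 1 = -(ρ c - 1) := by
      have h1 : ρ c * (1 - (ρ c - 1)) = 1 := by
        have : ρ c * (1 - (ρ c - 1)) = 1 - (ρ c - 1) * (ρ c - 1) := by noncomm_ring
        rw [this, hc, sub_zero]
      have h2 : ρ c⁻¹ = 1 - (ρ c - 1) := by
        calc ρ c⁻¹ = ρ c⁻¹ * (ρ c * (1 - (ρ c - 1))) := by rw [h1, mul_one]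
          _ = _ := by rw [← mul_assoc, ← map_mul, inv_mul_cancel, map_one, one_mul]
      rw [h2]; abel
    have hM : (M c⁻¹ - 1) * (M c⁻¹ - 1) = 0 := by
      have := congrArg (fun x => alg.mapMatrix (LinearMap.toMatrixAlgEquiv bW x))
        (show (ρ c⁻¹ - 1) * (ρ c⁻¹ - 1) = 0 by rw [e, neg_mul_neg, hc])
      simpa [M, map_mul, map_sub] using this
    show (Matrix.toLinAlgEquiv' (M c⁻¹)ᵀ - 1) * (Matrix.toLinAlgEquiv' (M c⁻¹)ᵀ - 1) = 0
    rw [← map_one (Matrix.toLinAlgEquiv' (R := 𝕂) (n := Fin n)), ← map_sub, ← map_mul,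
      ← Matrix.transpose_one, ← Matrix.transpose_sub, ← Matrix.transpose_mul, hM,
      Matrix.transpose_zero, map_zero]
  have hT : ¬ IsNilpotent ((σ a - 1) * (σ b - 1)) := fun hT => by
    obtain ⟨d, hd⟩ := hn
    obtain ⟨m, hm⟩ := CfsgLib.QuadPair.isNilpotent_sub_one_all σ hgen (hq a ha) (hq b hb) hT d⁻¹
    refine hd ⟨m, hMinj ?_⟩
    have e : σ d⁻¹ - 1 = Matrix.toLinAlgEquiv' (M d - 1)ᵀ := by
      show Matrix.toLinAlgEquiv' (M d⁻¹⁻¹)ᵀ - 1 = _
      rw [inv_inv, Matrix.transpose_sub, Matrix.transpose_one, map_sub, map_one]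
    rw [e, ← map_pow, ← Matrix.transpose_pow] at hm
    have h0 : (M d - 1) ^ m = 0 := Matrix.transpose_injective
      ((Matrix.toLinAlgEquiv' (R := 𝕂) (n := Fin n)).injective (hm.trans (by rw [Matrix.transpose_zero, map_zero])))
    simpa [M, map_pow, map_sub] using h0
  obtain ⟨μ, hμ, x, hx, hTx⟩ := CfsgLib.OddOrder.QuadraticPair.exists_ne_zero_eigen hT
  obtain ⟨φ, ι, hφa, hφb, hι, hint⟩ :=
    CfsgLib.QuadPair.exists_hom_of_eigen σ hgen (hq a ha) (hq b hb) hμ hx hTx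
  set Bt : Matrix (Fin 2) (Fin n) 𝕂 := (LinearMap.toMatrix' ι)ᵀ with hBt
  let J : Matrix (Fin 2) (Fin 2) 𝕂 := !![0, 1; -1, 0]
  have hBM : ∀ h, Bt * M h = ((φ h⁻¹).1)ᵀ * Bt := by
    intro h
    have hl : (M h)ᵀ * LinearMap.toMatrix' ι = LinearMap.toMatrix' ι * (φ h⁻¹).1 := by
      refine Matrix.ext_of_mulVec_single fun i => ?_
      rw [← Matrix.mulVec_mulVec, ← Matrix.mulVec_mulVec]
      simp only [LinearMap.toMatrix'_mulVec]
      have := hint h⁻¹ (Pi.single i 1)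
      rw [show σ h⁻¹ = Matrix.toLinAlgEquiv' (M h⁻¹⁻¹)ᵀ from rfl, inv_inv, Matrix.toLinAlgEquiv'_apply] at this
      exact this
    have := congrArg Matrix.transpose hl
    rwa [Matrix.transpose_mul, Matrix.transpose_mul, Matrix.transpose_transpose] at this
  have hJ : ∀ A : SL(2, 𝕂), J * (A⁻¹.1)ᵀ = A.1 * J := by
    intro A
    ext i j
    fin_cases i <;> fin_cases j <;>
      simp [J, Matrix.mul_apply, Fin.sum_univ_two, Matrix.SpecialLinearGroup.coe_inv, Matrix.adjugate_fin_two]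
  let π : W →ₗ[ZMod p] (Fin 2 → 𝕂) :=
    ((J * Bt).mulVecLin.restrictScalars (ZMod p)).comp
      (((Algebra.linearMap (ZMod p) 𝕂).compLeft (Fin n)).comp bW.equivFun.toLinearMap)
  have hπ : ∀ w, π w = (J * Bt) *ᵥ (alg ∘ bW.equivFun w) := fun w => rfl
  have heq : ∀ h w, π (ρ h w) = (φ h).1 *ᵥ π w := by
    intro h w
    have h1 : alg ∘ bW.equivFun (ρ h w) = M h *ᵥ (alg ∘ bW.equivFun w) := by
      have h2 : bW.equivFun (ρ h w) = (LinearMap.toMatrixAlgEquiv bW (ρ h)) *ᵥ bW.equivFun w :=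
        (LinearMap.toMatrix_mulVec_repr bW bW (ρ h) w).symm
      funext i
      rw [h2]
      exact RingHom.map_mulVec alg _ _ i
    rw [hπ, hπ, h1, Matrix.mulVec_mulVec, Matrix.mulVec_mulVec, Matrix.mul_assoc J, hBM, ← Matrix.mul_assoc,
      map_inv, hJ, Matrix.mul_assoc]
  have hne : π v ≠ 0 := by
    intro h0
    have hz : π = 0 := LinearMap.ext_on_range hspan fun h => by
      rw [heq, h0, Matrix.mulVec_zero, LinearMap.zero_apply]
    have hcol : J * Bt = 0 := Matrix.ext_of_mulVec_single fun i => by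
      have := LinearMap.congr_fun hz (bW i)
      rw [hπ, LinearMap.zero_apply] at this
      rw [Matrix.zero_mulVec]
      have e : alg ∘ bW.equivFun (bW i) = Pi.single i 1 := funext fun j => by
        simp [Module.Basis.equivFun_apply, Finsupp.single_apply, Pi.single_apply, alg, eq_comm]
      rwa [e] at this
    have hB : Bt = 0 := by
      have := congrArg (fun X => (!![0, -1; 1, 0] : Matrix (Fin 2) (Fin 2) 𝕂) * X) hcol
      have hJJ : (!![0, -1; 1, 0] : Matrix (Fin 2) (Fin 2) 𝕂) * J = 1 := by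
        ext i j; fin_cases i <;> fin_cases j <;> simp [J]
      rwa [← Matrix.mul_assoc, hJJ, Matrix.one_mul, Matrix.mul_zero] at this
    have h1 : (Pi.single 0 1 : Fin 2 → 𝕂) = 0 := hι (by
      rw [map_zero, ← LinearMap.toMatrix'_mulVec, show LinearMap.toMatrix' ι = 0 by
        rw [← Matrix.transpose_transpose (LinearMap.toMatrix' ι), ← hBt, hB, Matrix.transpose_zero],
        Matrix.zero_mulVec])
    simpa using congrFun h1 0
  have hfix := heq a v
  rw [hva, hφa] at hfix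
  have h1 : π v 1 = 0 := by
    have := congrFun hfix 0
    simp [Matrix.mulVec, dotProduct, Fin.sum_univ_two, up] at this
    exact this.resolve_left hμ
  exact ⟨μ, φ, π, hμ, hφa, hφb, heq, fun h0 => hne (funext fun i => by fin_cases i <;> assumption), h1⟩

local notation "cast𝕂" => (ZMod.castHom (dvd_refl p) 𝕂)

theorem exists_borel (hp2 : p ≠ 2) {a b : L} {μ : 𝕂} (hμ : μ ≠ 0) (φ : L →* SL(2, 𝕂)) (hφa : φ a = up μ)
    (hφb : φ b = low 1) (Q : Sylow p L) (haQ : a ∈ (Q : Subgroup L)) :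
    ∃ (S : Matrix (Fin 2) (Fin 2) 𝕂) (B : Subgroup L) (θ : ↥B →* SL(2, ZMod p)),
      S.det ≠ 0 ∧ S 1 0 = 0 ∧ B ≤ normalizer ((Q : Subgroup L) : Set L) ∧ θ.range = borel (ZMod p) ∧
        (∀ d : B, (φ d).1 * S = S * (θ d).1.map cast𝕂) ∧ ∀ A : SL(2, ZMod p), ∃ d : L, (φ d).1 * S = S * A.1.map cast𝕂 := by
  classical
  haveI : Finite φ.range := Finite.of_surjective φ.rangeRestrict φ.rangeRestrict_surjective
  obtain ⟨T, ψ, hTdet, hψ, hψr, hψT⟩ :=
    CfsgLib.PLocal.SLTwo.exists_sl2_le' (p := p) (H := φ.range) hp2 hμ ⟨a, hφa⟩ ⟨b, hφb⟩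
  -- the image of `Q`
  set Qi := (Q : Subgroup L).map φ with hQi
  have hupa : φ a ∈ unip 𝕂 ∧ φ a ≠ 1 := by
    rw [hφa]
    refine ⟨⟨by simp [up], by simp [up]⟩, fun e => hμ ?_⟩
    simpa [up] using congrArg (fun g : SL(2, 𝕂) => g.1 0 1) e
  haveI : Finite Qi := Finite.of_surjective (fun x : (Q : Subgroup L) => (⟨φ x, x, x.2, rfl⟩ : Qi))
    (by rintro ⟨_, x, hx, rfl⟩; exact ⟨⟨x, hx⟩, rfl⟩)
  have hQu : Qi ≤ unip 𝕂 := le_unip (Q.2.map φ) hupa.1 hupa.2 ⟨a, haQ, rfl⟩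
  -- conjugate the root group of the copy of `SL(2, p)` into the image of `Q`
  let u₁ : SL(2, ZMod p) := ⟨!![1, 1; 0, 1], by simp [Matrix.det_fin_two]⟩
  have hu₁ : u₁ ∈ unip (ZMod p) := ⟨by simp [u₁], by simp [u₁]⟩
  obtain ⟨z, hz⟩ := hψr u₁
  obtain ⟨x, hxz⟩ : ∃ x : L, φ x * ψ u₁ * (φ x)⁻¹ ∈ Qi := by
    have hzp : IsPGroup p ((Subgroup.zpowers (ψ u₁)).comap φ.range.subtype) :=
      (IsPGroup.of_card (n := 1) (by
        rw [pow_one, Nat.card_zpowers]
        refine orderOf_eq_prime (by rw [← map_pow, unip_pow (p := p) hu₁, map_one]) fun e => ?_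
        have := congrArg (fun g : SL(2, ZMod p) => g.1 0 1) (hψ (e.trans (map_one ψ).symm))
        simp [u₁] at this)).comap_of_injective _ φ.range.subtype_injective
    obtain ⟨R, hR⟩ := hzp.exists_le_sylow
    obtain ⟨⟨_, x, rfl⟩, hx⟩ := MulAction.exists_smul_eq φ.range R (Q.mapSurjective φ.rangeRestrict_surjective)
    have hmem : (⟨ψ u₁, hψr u₁⟩ : φ.range) ∈ (R : Subgroup φ.range) := hR (Subgroup.mem_zpowers _)
    have h1 : (⟨φ x, x, rfl⟩ : φ.range) * ⟨ψ u₁, hψr u₁⟩ * (⟨φ x, x, rfl⟩ : φ.range)⁻¹ ∈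
        ((Q.mapSurjective φ.rangeRestrict_surjective : Sylow p φ.range) : Subgroup φ.range) := by
      rw [← hx, Sylow.coe_subgroup_smul, Subgroup.mem_pointwise_smul_iff_inv_smul_mem]
      simpa [MulAut.smul_def, MulAut.conj_symm_apply, mul_assoc] using hmem
    rw [Sylow.coe_mapSurjective] at h1
    obtain ⟨q, hq, e⟩ := h1
    exact ⟨x, q, hq, congrArg Subtype.val e⟩
  let S : Matrix (Fin 2) (Fin 2) 𝕂 := (φ x).1 * T
  let ψ' : SL(2, ZMod p) →* SL(2, 𝕂) := (MulAut.conj (φ x)).toMonoidHom.comp ψ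
  have hψ'inj : Function.Injective ψ' := (MulAut.conj (φ x)).injective.comp hψ
  have hψ'r : ∀ A, ψ' A ∈ φ.range := fun A => mul_mem (mul_mem ⟨x, rfl⟩ (hψr A)) (inv_mem ⟨x, rfl⟩)
  have hψ'S : ∀ A, (ψ' A).1 * S = S * A.1.map cast𝕂 := fun A => by
    show (φ x * ψ A * (φ x)⁻¹).1 * ((φ x).1 * T) = _
    rw [← Matrix.mul_assoc, ← Matrix.SpecialLinearGroup.coe_mul, inv_mul_cancel_right,
      Matrix.SpecialLinearGroup.coe_mul, Matrix.mul_assoc, hψT, ← Matrix.mul_assoc]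
  have hSdet : S.det ≠ 0 := by
    rw [Matrix.det_mul, (φ x).2, one_mul]; exact hTdet
  have hw : ψ' u₁ ∈ unip 𝕂 ∧ ψ' u₁ ≠ 1 := ⟨hQu hxz, fun e => by
    have := congrArg (fun g : SL(2, ZMod p) => g.1 0 1) (hψ'inj (e.trans (map_one ψ').symm))
    simp [u₁] at this⟩
  have hS10 : S 1 0 = 0 := by
    have h := congrFun (congrFun (hψ'S u₁) 0) 0
    have hr : (ψ' u₁).1 0 1 ≠ 0 := fun h0 => hw.2 (fin_two_ext (by simpa using hw.1.2) (by simpa using h0)
      (by simpa using hw.1.1) (by simpa using unip_one_one hw.1))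
    simp [Matrix.mul_apply, Fin.sum_univ_two, u₁, hw.1.2] at h
    exact h.resolve_left hr
  have hS00 : S 0 0 ≠ 0 := fun h0 => hSdet (by rw [Matrix.det_fin_two, hS10, h0]; ring)
  have hψ'b : ∀ A, A ∈ borel (ZMod p) → ψ' A ∈ borel 𝕂 := by
    intro A hA
    have h := congrFun (congrFun (hψ'S A) 1) 0
    have hA' : A.1 1 0 = 0 := hA
    simp [Matrix.mul_apply, Fin.sum_univ_two, hS10, hA', hS00] at h
    exact h
  -- lift elements normalising the image of `Q`
  set U' := (unip 𝕂).comap φ with hU'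
  have hQU : (Q : Subgroup L) ≤ U' := fun q hq => hQu ⟨q, hq, rfl⟩
  have hUi : ∀ n ∈ U', ∃ q ∈ (Q : Subgroup L), φ q = φ n := by
    intro n hn
    have hp' : IsPGroup p ((unip 𝕂).comap φ.range.subtype) := fun g => ⟨1, Subtype.ext (Subtype.ext (by
      show ((g : φ.range) : SL(2, 𝕂)) ^ p ^ 1 = 1
      rw [pow_one]
      exact unip_pow (p := p) g.2))⟩
    have heq := (Q.mapSurjective φ.rangeRestrict_surjective).3 hp' (by
      rw [Sylow.coe_mapSurjective]
      rintro _ ⟨q, hq, rfl⟩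
      exact hQu ⟨q, hq, rfl⟩)
    have hmem : φ.rangeRestrict n ∈ (unip 𝕂).comap φ.range.subtype := hn
    rw [heq, Sylow.coe_mapSurjective] at hmem
    obtain ⟨q, hq, e⟩ := hmem
    exact ⟨q, hq, congrArg Subtype.val e⟩
  have hlift : ∀ d : L, φ d ∈ borel 𝕂 → ∃ d' ∈ normalizer ((Q : Subgroup L) : Set L), φ d' = φ d := by
    intro d hd
    have hle : (Q : Subgroup L).map (MulAut.conj d).toMonoidHom ≤ U' := by
      rintro _ ⟨q, hq, rfl⟩
      show φ (d * q * d⁻¹) ∈ unip 𝕂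
      rw [map_mul, map_mul, map_inv]
      exact conj_mem_unip hd (hQu ⟨q, hq, rfl⟩)
    obtain ⟨n, hn, hnle⟩ := exists_conj_le_sylow_of (S := (Q : Subgroup L)) hle (isPGroup_map_conj Q.2 d) hQU Q.2
      (not_dvd_relIndex_sylow Q hQU)
    obtain ⟨q, hq, hqn⟩ := hUi n hn
    refine ⟨q⁻¹ * (n * d), mul_mem (inv_mem (le_normalizer hq)) ?_, ?_⟩
    · rw [← map_conj_eq_self_iff]
      refine eq_of_le_of_card_ge ?_ (card_map_conj _ _).ge
      rw [map_conj_mul]; exact hnle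
    · rw [map_mul, map_mul, map_inv, hqn, inv_mul_cancel_left]
  let Bi : Subgroup SL(2, 𝕂) := (borel (ZMod p)).map ψ'
  let B : Subgroup L := normalizer ((Q : Subgroup L) : Set L) ⊓ Bi.comap φ
  have hex : ∀ d : B, ∃ A, A ∈ borel (ZMod p) ∧ ψ' A = φ d := fun d => d.2.2
  choose θ hθb hθe using hex
  refine ⟨S, B, MonoidHom.mk' θ fun d e => hψ'inj (by rw [hθe, map_mul, hθe, hθe, Subgroup.coe_mul, map_mul]),
    hSdet, hS10, inf_le_left, le_antisymm ?_ ?_, fun d => ?_, fun A => ?_⟩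
  · rintro _ ⟨d, rfl⟩; exact hθb d
  · intro A hA
    obtain ⟨d, hd⟩ := hψ'r A
    obtain ⟨d', hd', hde⟩ := hlift d (hd ▸ hψ'b A hA)
    exact ⟨⟨d', hd', A, hA, (hde.trans hd).symm⟩, hψ'inj ((hθe _).trans (hde.trans hd))⟩
  · show (φ d).1 * S = S * (θ d).1.map cast𝕂
    rw [← hθe d]; exact hψ'S _
  · obtain ⟨d, hd⟩ := hψ'r A
    exact ⟨d, by rw [hd]; exact hψ'S A⟩

end CfsgLib.LocalEven.ZJWeight
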