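import Cfsg.Agent.Lib.PLocal.QdSection
import Cfsg.Agent.Lib.LocalEven.ZJWeight.Linear
import Cfsg.Prelude.Def_LocalEven

/-!
A group acting through a Borel subgroup of `SL(2, p)` on a copy of the natural module inside it has a
section isomorphic to the group of upper triangular affine matrices.
-/

set_option autoImplicit false
set_option linter.unusedSectionVars false

open scoped MatrixGroups

namespace CfsgLib.LocalEven.ZJWeight

open CfsgLib.PLocal

universe u

variable {p : ℕ} [hp : Fact p.Prime]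

theorem exists_f_section {X : Type u} [Group X] [Finite X] (hp2 : p ≠ 2) (θ : X →* SL(2, ZMod p))
    (hθ : θ.range = borel (ZMod p)) (j : Multiplicative (Fin 2 → ZMod p) →* X)
    (hj : Function.Injective j) (hjθ : ∀ z, θ (j z) = 1)
    (heq : ∀ x z, x * j z * x⁻¹ = j (natAut (θ x) z)) :
    ∃ (M : Subgroup X) (f : M →* Cfsg.fOver (ZMod p)), Function.Surjective f := by
  have h2 : (2 : ZMod p) ≠ 0 := Ring.two_ne_zero (by rw [ZMod.ringChar_zmod_n]; exact hp2)
  -- a `2`-element acting as `-1`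
  obtain ⟨x₀, hx₀⟩ : (-1 : SL(2, ZMod p)) ∈ θ.range := by rw [hθ]; exact mem_borel.2 (by simp)
  obtain ⟨k, m, hm, hord⟩ :=
    Nat.exists_eq_pow_mul_and_not_dvd (orderOf_pos x₀).ne' 2 (by norm_num)
  set z₀ := x₀ ^ m with hz₀
  have hmodd : Odd m := Nat.odd_iff.2 (by omega)
  have hθz : θ z₀ = -1 := by rw [hz₀, map_pow, hx₀, hmodd.neg_one_pow]
  haveI hNn : (Subgroup.zpowers (-1 : SL(2, ZMod p))).Normal := ⟨by
    intro a ha g
    obtain ⟨i, rfl⟩ := ha
    have hc : Commute g ((-1 : SL(2, ZMod p)) ^ i) := ((Commute.one_right g).neg_right).zpow_right i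
    rw [hc.eq, mul_inv_cancel_right]
    exact ⟨i, rfl⟩⟩
  set N := (Subgroup.zpowers (-1 : SL(2, ZMod p))).comap θ with hN
  haveI : Fact (Nat.Prime 2) := ⟨Nat.prime_two⟩
  have hzN : z₀ ∈ N := ⟨1, (zpow_one _).trans hθz.symm⟩
  have hz2 : IsPGroup 2 (Subgroup.zpowers (⟨z₀, hzN⟩ : N)) := by
    refine IsPGroup.of_card_dvd_pow (n := k) ?_
    rw [Nat.card_zpowers, Subgroup.orderOf_mk]
    refine orderOf_dvd_of_pow_eq_one ?_
    rw [hz₀, ← pow_mul, mul_comm, ← hord, pow_orderOf_eq_one]
  obtain ⟨Z, hZ⟩ := hz2.exists_le_sylow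
  set Z' := (Z : Subgroup N).map N.subtype with hZ'
  set Q := Subgroup.normalizer (Z' : Set X) with hQ
  have hzZ : z₀ ∈ Z' := ⟨⟨z₀, hzN⟩, hZ (Subgroup.mem_zpowers _), rfl⟩
  have hQθ : ∀ y ∈ borel (ZMod p), ∃ q : Q, θ q = y := by
    intro y hy
    obtain ⟨x, rfl⟩ : y ∈ θ.range := by rw [hθ]; exact hy
    have hx : x ∈ Q ⊔ N := by rw [hQ, hZ', Sylow.normalizer_sup_eq_top]; exact Subgroup.mem_top x
    obtain ⟨q, hq, n, ⟨i, hi⟩, rfl⟩ := Subgroup.mem_sup_of_normal_right.1 hx
    refine ⟨⟨q, hq⟩ * ⟨z₀ ^ i, zpow_mem (Subgroup.le_normalizer hzZ) i⟩, ?_⟩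
    show θ (q * z₀ ^ i) = θ (q * n)
    rw [map_mul, map_mul, map_zpow, hθz, ← hi]
  have hdisj : ∀ v, j v ∈ Q → v = 1 := by
    intro v hv
    have hc1 : j v * z₀ * (j v)⁻¹ * z₀⁻¹ ∈ Z' :=
      mul_mem ((Subgroup.mem_normalizer_iff.1 hv z₀).1 hzZ) (inv_mem hzZ)
    have hc2 : j v * z₀ * (j v)⁻¹ * z₀⁻¹ = j (v * v) := by
      have e : natAut (θ z₀) v⁻¹ = v := by
        rw [hθz]
        apply Multiplicative.toAdd.injective
        rw [natAut_apply]
        simp [Matrix.neg_mulVec]
      calc j v * z₀ * (j v)⁻¹ * z₀⁻¹ = j v * (z₀ * j v⁻¹ * z₀⁻¹) := by rw [map_inv]; group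
        _ = j (v * v) := by rw [heq, e, map_mul]
    have hone : j (v * v) = 1 := by
      rw [hc2] at hc1
      obtain ⟨l, hl⟩ := IsPGroup.iff_card.mp (Z.isPGroup'.map N.subtype)
      have ho2 : orderOf (j (v * v)) ∣ 2 ^ l := by
        rw [← hl]
        exact Subgroup.orderOf_dvd_natCard _ hc1
      have hop : orderOf (j (v * v)) ∣ p := by
        refine orderOf_dvd_of_pow_eq_one ?_
        rw [← map_pow, ← map_one j]
        congr 1
        apply Multiplicative.toAdd.injective
        rw [toAdd_pow, toAdd_one]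
        funext i
        simp
      rw [← orderOf_eq_one_iff, ← Nat.dvd_one,
        ← show Nat.gcd (2 ^ l) p = 1 from ((Nat.coprime_primes Nat.prime_two hp.out).2
          (Ne.symm hp2)).pow_left l]
      exact Nat.dvd_gcd ho2 hop
    have h0 := congrArg Multiplicative.toAdd (hj (hone.trans (map_one j).symm))
    apply Multiplicative.toAdd.injective
    funext i
    have hi : (Multiplicative.toAdd v) i + (Multiplicative.toAdd v) i = 0 := congrFun h0 i
    rw [← two_mul] at hi
    simpa using (mul_eq_zero.1 hi).resolve_left h2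
  -- the semidirect product
  let act : Q →* MulAut (Multiplicative (Fin 2 → ZMod p)) := natAut.comp (θ.comp Q.subtype)
  let π : Multiplicative (Fin 2 → ZMod p) ⋊[act] Q →* X :=
    { toFun := fun s => j s.left * (s.right : X)
      map_one' := by simp
      map_mul' := fun s t => by
        show j (s.left * act s.right t.left) * ((s.right : X) * (t.right : X)) = _
        rw [map_mul, show act s.right t.left = natAut (θ s.right) t.left from rfl, ← heq]
        group }
  have hπ : Function.Injective π := by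
    rw [injective_iff_map_eq_one]
    rintro ⟨v, q⟩ h
    have hjq : j v = (q : X)⁻¹ := mul_eq_one_iff_eq_inv.1 (show j v * (q : X) = 1 from h)
    have hv := hdisj v (by rw [hjq]; exact inv_mem q.2)
    subst hv
    rw [map_one, eq_comm, inv_eq_one] at hjq
    exact SemidirectProduct.ext rfl (Subtype.ext hjq)
  let χ₀ : Multiplicative (Fin 2 → ZMod p) ⋊[act] Q →* SL(3, ZMod p) :=
    { toFun := fun s => affMat (θ s.right) (Multiplicative.toAdd s.left)
      map_one' := by simp [affMat_one]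
      map_mul' := fun s t => by
        rw [affMat_mul]
        show affMat (θ ((s.right : X) * (t.right : X)))
          (Multiplicative.toAdd (s.left * natAut (θ s.right) t.left)) = _
        rw [map_mul, toAdd_mul, natAut_apply] }
  let χ := χ₀.codRestrict (Cfsg.fOver (ZMod p)) fun s => by
    have h10 : (θ (s.right : X)).1 1 0 = 0 := by
      have : θ (s.right : X) ∈ borel (ZMod p) := hθ ▸ ⟨_, rfl⟩
      exact this
    exact Subgroup.subset_closure ⟨h10, rfl, rfl, rfl⟩
  have hrange : Cfsg.fOver (ZMod p) ≤ χ₀.range := by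
    rw [Cfsg.fOver, Subgroup.closure_le]
    rintro M ⟨h0, h1, h2, h3⟩
    obtain ⟨A, v, rfl⟩ := exists_affMat ⟨h1, h2, h3⟩
    obtain ⟨q, rfl⟩ := hQθ A (mem_borel.2 h0)
    exact ⟨⟨Multiplicative.ofAdd v, q⟩, rfl⟩
  have hχ : Function.Surjective χ := by
    rintro ⟨M, hM⟩
    obtain ⟨s, hs⟩ := hrange hM
    exact ⟨s, Subtype.ext hs⟩
  let e := MonoidHom.ofInjective hπ
  exact ⟨π.range, χ.comp e.symm.toMonoidHom, hχ.comp e.symm.surjective⟩

end CfsgLib.LocalEven.ZJWeight
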