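import Mathlib
import Cfsg.Agent.Lib.Techniques.LocalToGlobal

/-!
Failure of strong fusion control by `N(Z)`, `Z` abelian and normal in a Sylow subgroup, reduced to a
minimal bad subgroup inside the normalizer of a subgroup meeting `Z` outside its core.
-/

set_option autoImplicit false
set_option linter.unusedSectionVars false

namespace CfsgLib.LocalEven.ZJWeight

open Subgroup CfsgLib.Techniques CfsgLib.Techniques.Fusion

variable {G : Type*} [Group G]

/-- Conjugation by `h` on `D` is induced by an element of `N(Z)`. -/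
def Real (Z D : Subgroup G) (h : G) : Prop :=
  ∃ x ∈ normalizer (Z : Set G), ∀ a ∈ D, x * a * x⁻¹ = h * a * h⁻¹

theorem Real.mono {Z D D' : Subgroup G} {h : G} (hle : D ≤ D') (hr : Real Z D' h) : Real Z D h :=
  let ⟨x, hx, e⟩ := hr
  ⟨x, hx, fun a ha => e a (hle ha)⟩

theorem Real.comp {Z D : Subgroup G} {h h' : G} (h1 : Real Z D h)
    (h2 : Real Z (D.map (MulAut.conj h).toMonoidHom) h') : Real Z D (h' * h) := by
  obtain ⟨x, hx, e⟩ := h1
  obtain ⟨y, hy, e'⟩ := h2
  refine ⟨y * x, mul_mem hy hx, fun a ha => ?_⟩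
  calc y * x * a * (y * x)⁻¹ = y * (x * a * x⁻¹) * y⁻¹ := by group
    _ = y * (h * a * h⁻¹) * y⁻¹ := by rw [e a ha]
    _ = h' * (h * a * h⁻¹) * h'⁻¹ := e' _ ⟨a, ha, rfl⟩
    _ = _ := by group

theorem Real.symm {Z D : Subgroup G} {h : G} (hr : Real Z D h) :
    Real Z (D.map (MulAut.conj h).toMonoidHom) h⁻¹ := by
  obtain ⟨x, hx, e⟩ := hr
  refine ⟨x⁻¹, inv_mem hx, ?_⟩
  rintro _ ⟨a, ha, rfl⟩
  show x⁻¹ * (h * a * h⁻¹) * x⁻¹⁻¹ = h⁻¹ * (h * a * h⁻¹) * h⁻¹⁻¹
  calc x⁻¹ * (h * a * h⁻¹) * x⁻¹⁻¹ = x⁻¹ * (x * a * x⁻¹) * x := by rw [e a ha, inv_inv]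
    _ = h⁻¹ * (h * a * h⁻¹) * h⁻¹⁻¹ := by group

theorem real_of_mem {Z D : Subgroup G} {h : G} (hh : h ∈ normalizer (Z : Set G)) : Real Z D h :=
  ⟨h, hh, fun _ _ => rfl⟩

theorem real_of_commute {Z D : Subgroup G} {k c : G} (hk : k ∈ normalizer (Z : Set G))
    (hc : ∀ a ∈ D, c * a = a * c) : Real Z D (k * c) :=
  ⟨k, hk, fun a ha => by
    rw [show k * c * a * (k * c)⁻¹ = k * (c * a * c⁻¹) * k⁻¹ by group, hc a ha, mul_inv_cancel_right]⟩

theorem holdsOn_conj {Z T X R₂ X₂ : Subgroup G} {g : G} (hT : T.map (MulAut.conj g).toMonoidHom ≤ R₂)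
    (hg : Real Z T g) (hX : ∀ x ∈ X, g * x * g⁻¹ ∈ X₂) (h : HoldsOn R₂ (Real Z) X₂) :
    HoldsOn T (Real Z) X := by
  intro A y hy hA hyA
  have e : y = g⁻¹ * ((g * y * g⁻¹) * g) := by group
  have himg : (A.map (MulAut.conj g).toMonoidHom).map (MulAut.conj (g * y * g⁻¹)).toMonoidHom =
      (A.map (MulAut.conj y).toMonoidHom).map (MulAut.conj g).toMonoidHom := by
    rw [← map_conj_mul, inv_mul_cancel_right, map_conj_mul]
  have h2 : Real Z (A.map (MulAut.conj g).toMonoidHom) (g * y * g⁻¹) :=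
    h _ _ (hX y hy) ((Subgroup.map_mono hA).trans hT) (himg.le.trans ((Subgroup.map_mono hyA).trans hT))
  rw [e]
  refine ((hg.mono hA).comp h2).comp ?_
  rw [show g * y * g⁻¹ * g = g * y by group, map_conj_mul]
  exact (hg.mono hyA).symm

variable [Finite G] {p : ℕ} [Fact p.Prime]

theorem isFusionClosed_real (S Z : Subgroup G) : IsFusionClosed S (Real Z) where
  mono := fun hle h => h.mono hle
  comp := fun _ _ h1 h2 => h1.comp h2

/-- If `H` normalizes `N₁` and `K = R ⊓ N₁`, maps inside `R` by elements of `H` come from those of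
`N₁ R` and of `N_H(K)`. -/
theorem holdsOn_of_normal {Z H R N₁ : Subgroup G} (hRH : R ≤ H) (hRp : IsPGroup p R)
    (hidx : ¬ p ∣ R.relIndex H) (hN₁ : N₁ ≤ H) (hn : H ≤ normalizer (N₁ : Set G))
    (h1 : HoldsOn R (Real Z) (N₁ ⊔ R))
    (h2 : HoldsOn R (Real Z) (H ⊓ normalizer ((R ⊓ N₁ : Subgroup G) : Set G))) :
    HoldsOn R (Real Z) H := by
  intro A h hh hA hhA
  set K := R ⊓ N₁ with hK
  set X := N₁ ⊔ R with hX
  set K₂ := K.map (MulAut.conj h⁻¹).toMonoidHom with hK₂
  have hK₂N : K₂ ≤ N₁ := by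
    refine (Subgroup.map_mono inf_le_right).trans (le_of_eq ?_)
    exact map_conj_eq_self_iff.2 (hn (inv_mem hh))
  have hAK₂ : A ≤ normalizer (K₂ : Set G) := by
    intro a ha
    have h3 : h * a * h⁻¹ ∈ normalizer (K : Set G) :=
      Techniques.mem_normalizer_inf (le_normalizer (hhA ⟨a, ha, rfl⟩)) (hn (hRH (hhA ⟨a, ha, rfl⟩)))
    have e : a = (MulAut.conj h⁻¹).toMonoidHom (h * a * h⁻¹) := by simp [mul_assoc]
    rw [e]
    exact map_conj_normalizer_le K h⁻¹ ⟨_, h3, rfl⟩
  have hp2 : IsPGroup p (A ⊔ K₂ : Subgroup G) :=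
    Techniques.isPGroup_sup (hRp.to_le hA) (isPGroup_map_conj (hRp.to_le inf_le_left) _) hAK₂
  have hXH : X ≤ H := sup_le hN₁ hRH
  have hidxX : ¬ p ∣ R.relIndex X := fun hd => hidx (hd.trans (by
    rw [← Subgroup.relIndex_mul_relIndex R X H le_sup_right hXH]
    exact dvd_mul_right _ _))
  obtain ⟨n, hn', hle⟩ := exists_conj_le_sylow_of (S := R)
    (sup_le (hA.trans le_sup_right) (hK₂N.trans le_sup_left) : A ⊔ K₂ ≤ X) hp2 le_sup_right hRp hidxX
  have hnK : K₂.map (MulAut.conj n).toMonoidHom = K := by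
    refine eq_of_le_of_card_ge (le_inf ((Subgroup.map_mono le_sup_right).trans hle) ?_) ?_
    · refine (Subgroup.map_mono hK₂N).trans (le_of_eq ?_)
      exact map_conj_eq_self_iff.2 (hn (hXH hn'))
    · rw [card_map_conj, hK₂, card_map_conj]
  have hy : h * n⁻¹ ∈ normalizer (K : Set G) := by
    rw [← map_conj_eq_self_iff]
    nth_rw 1 [← hnK]
    rw [← map_conj_mul, inv_mul_cancel_right, hK₂, ← map_conj_mul, mul_inv_cancel, map_conj_one]
  have hA' : A.map (MulAut.conj n).toMonoidHom ≤ R := (Subgroup.map_mono le_sup_left).trans hle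
  have e : h = (h * n⁻¹) * n := by group
  rw [e]
  refine (h1 A n hn' hA hA').comp (h2 _ _ (Subgroup.mem_inf.2 ⟨mul_mem hh (inv_mem (hXH hn')), hy⟩) hA' ?_)
  rw [← map_conj_mul, inv_mul_cancel_right]
  exact hhA

/-- The setting: `Z` abelian in `S`, normalized by `S`, with core `D`, and `J ≤ S` centralizing `Z`. -/
structure Core (S : Sylow p G) (Z D J : Subgroup G) : Prop where
  comm : ∀ a ∈ Z, ∀ b ∈ Z, a * b = b * a
  le : Z ≤ (S : Subgroup G)
  norm : (S : Subgroup G) ≤ normalizer (Z : Set G)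
  normS : normalizer ((S : Subgroup G) : Set G) ≤ normalizer (Z : Set G)
  dle : D ≤ Z
  dnormal : D.Normal
  dmax : ∀ V : Subgroup G, V.Normal → V ≤ Z → V ≤ D
  fixed : ∃ z ∈ Z, z ∉ D ∧ ∀ s ∈ (S : Subgroup G), s * z * s⁻¹ * z⁻¹ ∈ D
  jle : J ≤ (S : Subgroup G)
  jcent : ∀ j ∈ J, ∀ z ∈ Z, j * z = z * j

/-- A minimal bad subgroup `H` with Sylow subgroup `R`. -/
structure Bad (S : Sylow p G) (Z D J U R H : Subgroup G) : Prop where
  DU : D ≤ U
  UZ : ¬ U ⊓ Z ≤ D
  UR : U ≤ R
  RS : R ≤ (S : Subgroup G)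
  RH : R ≤ H
  HU : H ≤ normalizer (U : Set G)
  idx : ¬ p ∣ R.relIndex H
  bad : ¬ HoldsOn R (Real Z) H
  small : ∀ H' : Subgroup G, R ≤ H' → H' < H → HoldsOn R (Real Z) H'
  bigger : ∀ U' : Subgroup G, U < U' → U' ≤ R → R ≤ normalizer (U' : Set G) →
    HoldsOn R (Real Z) (H ⊓ normalizer (U' : Set G))
  line : ∀ V : Subgroup G, D ≤ V → ¬ V ≤ D → V ≤ U ⊓ Z → R ≤ normalizer (V : Set G) →
    HoldsOn R (Real Z) (H ⊓ normalizer (V : Set G))
  climb : ¬ J ≤ R → ∀ V : Subgroup G, D ≤ V → ¬ V ⊓ Z ≤ D → V ≤ R →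
    (S : Subgroup G) ⊓ normalizer (R : Set G) ≤ normalizer (V : Set G) → H ≤ normalizer (V : Set G) → False
  top : J ≤ R → R = S

variable {S : Sylow p G} {Z D J : Subgroup G}

theorem Core.pow_mem_centralizer (hc : Core S Z D J) {U : Subgroup G} {g : G}
    (hg : ∀ u ∈ U, g * u * g⁻¹ * u⁻¹ ∈ D) (hgD : ∀ d ∈ D, g * d = d * g) :
    ∀ u ∈ U, g ^ Nat.card D * u = u * g ^ Nat.card D := by
  intro u hu
  set d := g * u * g⁻¹ * u⁻¹ with hd
  have key : ∀ n : ℕ, g ^ n * u * (g ^ n)⁻¹ = d ^ n * u := by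
    intro n
    induction n with
    | zero => simp
    | succ n ih =>
      have hc' : g * d ^ n = d ^ n * g := (Commute.pow_right (show Commute g d from hgD d (hg u hu)) n).eq
      calc g ^ (n + 1) * u * (g ^ (n + 1))⁻¹ = g * (g ^ n * u * (g ^ n)⁻¹) * g⁻¹ := by
            rw [pow_succ']; group
        _ = g * d ^ n * u * g⁻¹ := by rw [ih]; group
        _ = d ^ n * (g * u * g⁻¹ * u⁻¹) * u := by rw [hc']; group
        _ = _ := by rw [pow_succ]
  have h1 : d ^ Nat.card D = 1 := congrArg Subtype.val (pow_card_eq_one' (x := (⟨d, hg u hu⟩ : D)))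
  have := key (Nat.card D)
  rw [h1, one_mul] at this
  exact mul_inv_eq_iff_eq_mul.1 this

/-- Maps of a fully normalized subgroup missing the core or `Z` extend to larger subgroups. -/
theorem Core.goodAbove (hc : Core S Z D J) (k : ℕ)
    (hcl : ∀ U : Subgroup G, IsFN p (S : Subgroup G) U → D ≤ U → ¬ U ⊓ Z ≤ D → k < Nat.card U →
      ∀ x ∈ normalizer (U : Set G), Real Z U x) :
    HoldsAbove (S : Subgroup G) (Real Z) k := by
  by_cases hk : Nat.card (S : Subgroup G) ≤ k
  · intro A h hA hAS; exact absurd (card_le_of_le hAS) (by omega)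
  have ih := Core.goodAbove hc (k + 1) fun U h1 h2 h3 h4 => hcl U h1 h2 h3 (by omega)
  haveI := hc.dnormal
  refine holdsAbove_of_family S (isFusionClosed_real _ Z) {U | IsFN p (S : Subgroup G) U} k
    (fun T hT _ => ?_) fun U hU hkU _ x hx => ?_
  · obtain ⟨g, hg⟩ := exists_isFN_conj S (S.2.to_le hT)
    exact ⟨_, hg, ⟨g, rfl⟩, hg⟩
  by_cases hbig : k + 1 < Nat.card U
  · exact ih U x hbig hU.1 ((map_conj_eq_self_iff.2 hx).le.trans hU.1)
  by_cases hDU : D ≤ U
  swap
  · have hlt : U < U ⊔ D := lt_of_le_of_ne le_sup_left fun e => hDU (e.symm ▸ le_sup_right)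
    refine (ih (U ⊔ D) x ?_ (sup_le hU.1 (hc.dle.trans hc.le)) ?_).mono le_sup_left
    · have := card_lt_of_lt hlt; omega
    · rw [Subgroup.map_sup, map_conj_eq_self_iff.2 hx,
        map_conj_eq_self_iff.2 (by rw [Subgroup.normalizer_eq_top D]; trivial)]
      exact sup_le hU.1 (hc.dle.trans hc.le)
  by_cases hUZ : U ⊓ Z ≤ D
  swap
  · exact hcl U hU hDU hUZ hkU x hx
  -- the stabiliser of the series `U ≥ D ≥ 1`
  set R := (S : Subgroup G) ⊓ normalizer (U : Set G) with hR
  let T : Subgroup G :=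
    { carrier := {g | g ∈ normalizer (U : Set G) ∧ (∀ u ∈ U, g * u * g⁻¹ * u⁻¹ ∈ D) ∧ ∀ d ∈ D, g * d = d * g}
      one_mem' := ⟨one_mem _, fun u _ => by simp [one_mem], fun d _ => by simp⟩
      mul_mem' := by
        rintro a b ⟨ha, ha', ha''⟩ ⟨hb, hb', hb''⟩
        refine ⟨mul_mem ha hb, fun u hu => ?_, fun d hd => ?_⟩
        · have h1 := hb' u hu
          have e : a * b * u * (a * b)⁻¹ * u⁻¹ = (a * (b * u * b⁻¹ * u⁻¹) * a⁻¹) * (a * u * a⁻¹ * u⁻¹) := by group
          rw [e, ha'' _ h1, mul_inv_cancel_right]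
          exact mul_mem h1 (ha' u hu)
        · rw [mul_assoc, hb'' d hd, ← mul_assoc, ha'' d hd, mul_assoc]
      inv_mem' := by
        rintro a ⟨ha, ha', ha''⟩
        have hac : ∀ d ∈ D, a⁻¹ * d = d * a⁻¹ := fun d hd => (Commute.inv_left (ha'' d hd)).eq
        refine ⟨inv_mem ha, fun u hu => ?_, hac⟩
        have h2 := ha' _ ((mem_normalizer_iff.1 (inv_mem ha) u).1 hu)
        have e : a⁻¹ * u * a⁻¹⁻¹ * u⁻¹ = (a * (a⁻¹ * u * a⁻¹⁻¹) * a⁻¹ * (a⁻¹ * u * a⁻¹⁻¹)⁻¹)⁻¹ := by group
        rw [e]; exact inv_mem h2 }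
  obtain ⟨z, hzZ, hzD, hzS⟩ := hc.fixed
  have hzU : ∀ u ∈ U, z * u * z⁻¹ * u⁻¹ ∈ D := fun u hu => by
    have h1 := hzS u (hU.1 hu)
    rw [show z * u * z⁻¹ * u⁻¹ = (u * z * u⁻¹ * z⁻¹)⁻¹ by group]
    exact inv_mem h1
  have hzN : z ∈ normalizer (U : Set G) := map_conj_eq_self_iff.1 (eq_of_le_of_card_ge (map_conj_le_iff.2 fun u hu =>
    by simpa [mul_assoc] using mul_mem (hDU (hzU u hu)) hu) (card_map_conj _ _).ge)
  have hzT : z ∈ T := ⟨hzN, hzU, fun d hd => hc.comm z hzZ d (hc.dle hd)⟩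
  have hTN : T ≤ normalizer (U : Set G) := fun g hg => hg.1
  have hTn : normalizer (U : Set G) ≤ normalizer (T : Set G) := by
    intro n hn
    refine map_conj_eq_self_iff.1 (eq_of_le_of_card_ge (map_conj_le_iff.2 ?_) (card_map_conj _ _).ge)
    rintro g ⟨hg, hg', hg''⟩
    refine ⟨mul_mem (mul_mem hn hg) (inv_mem hn), fun u hu => ?_, fun d hd => ?_⟩
    · have h1 := hc.dnormal.conj_mem _ (hg' _ ((mem_normalizer_iff.1 (inv_mem hn) u).1 hu)) n
      simpa [mul_assoc] using h1
    · have h1 := hg'' _ (hc.dnormal.conj_mem d hd n⁻¹)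
      calc n * g * n⁻¹ * d = n * (g * (n⁻¹ * d * n⁻¹⁻¹)) * n⁻¹ := by group
        _ = _ := by rw [h1]; group
  set K := R ⊓ T with hK
  have hUK : U ≤ R := le_inf hU.1 le_normalizer
  have hlt : Nat.card U < Nat.card (U ⊔ K : Subgroup G) := card_lt_of_lt (lt_of_le_of_ne le_sup_left fun e =>
    hzD (hUZ ⟨e.ge (le_sup_right (α := Subgroup G) (a := U) (b := K)
      ⟨⟨hc.le hzZ, hzN⟩, hzT⟩), hzZ⟩))
  have hxT := hTn hx
  -- Frattini argument
  have hidx : ¬ p ∣ K.relIndex T := by
    have hRN : R ≤ normalizer (U : Set G) := inf_le_right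
    haveI : (T.subgroupOf (normalizer (U : Set G))).Normal :=
      (Subgroup.normal_subgroupOf_iff_le_normalizer hTN).2 hTn
    let P : Sylow p (normalizer (U : Set G)) :=
      ((S.2.to_le (inf_le_left : R ≤ (S : Subgroup G))).of_equiv (subgroupOfEquivOfLe hRN).symm).toSylow
        (P := R.subgroupOf (normalizer (U : Set G))) hU.2
    have h1 := Techniques.not_dvd_relIndex_inf_normal P (T.subgroupOf (normalizer (U : Set G)))
    have hP : (P : Subgroup (normalizer (U : Set G))) ⊓ T.subgroupOf (normalizer (U : Set G)) =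
        K.subgroupOf (normalizer (U : Set G)) := (Subgroup.comap_inf R T _).symm
    rw [hP, Subgroup.relIndex_subgroupOf hTN] at h1
    exact h1
  have hle : K.map (MulAut.conj x).toMonoidHom ≤ T := by
    rw [← map_conj_eq_self_iff.2 hxT]; exact Subgroup.map_mono inf_le_right
  have hKp : IsPGroup p K := S.2.to_le (inf_le_left.trans inf_le_left)
  obtain ⟨n, hn, hnle⟩ := exists_conj_le_sylow_of (S := K) hle (isPGroup_map_conj hKp x) inf_le_right hKp hidx
  have hyK : n * x ∈ normalizer (K : Set G) := by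
    rw [← map_conj_eq_self_iff]
    refine eq_of_le_of_card_ge ?_ (card_map_conj _ _).ge
    rw [map_conj_mul]; exact hnle
  have hy : Real Z U (n * x) := by
    refine (ih (U ⊔ K) (n * x) (by omega) (sup_le hU.1 (inf_le_left.trans inf_le_left)) ?_).mono le_sup_left
    rw [Subgroup.map_sup, map_conj_eq_self_iff.2 (mul_mem (hTN hn) hx), map_conj_eq_self_iff.2 hyK]
    exact sup_le hU.1 (inf_le_left.trans inf_le_left)
  -- elements of the stabiliser act as elements of `K`
  have hTreal : ∀ g ∈ T, Real Z U g := by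
    intro g hg
    set C := T ⊓ centralizer (U : Set G) with hC
    have hTC : T ≤ normalizer (C : Set G) := fun s hs =>
      Techniques.mem_normalizer_inf (le_normalizer hs) (normalizer_le_normalizer_centralizer U hs.1)
    obtain ⟨k, hk, c, hc', e⟩ : ∃ k ∈ K, ∃ c ∈ C, k * c = g := by
      set C' := C.subgroupOf T with hC'
      haveI : C'.Normal := (Subgroup.normal_subgroupOf_iff_le_normalizer inf_le_left).2 hTC
      have hq : IsPGroup p (T ⧸ C') := by
        intro y
        obtain ⟨⟨s, hs⟩, rfl⟩ := QuotientGroup.mk'_surjective C' y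
        obtain ⟨m, hm⟩ := IsPGroup.iff_card.1 (S.2.to_le (hc.dle.trans hc.le))
        refine ⟨m, ?_⟩
        rw [← map_pow]
        refine (QuotientGroup.eq_one_iff _).2 (Subgroup.mem_subgroupOf.2 ⟨?_, ?_⟩)
        · exact SetLike.coe_mem _
        · refine mem_centralizer_iff.2 fun u hu => ?_
          have := hc.pow_mem_centralizer hs.2.1 hs.2.2 u hu
          rw [hm] at this
          simpa using this.symm
      let P := hKp.comap_of_injective T.subtype T.subtype_injective
      have hPi : ¬ p ∣ (K.subgroupOf T).index := hidx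
      let Ps : Sylow p T := IsPGroup.toSylow P hPi
      have htop : (K.subgroupOf T).map (QuotientGroup.mk' C') = ⊤ := by
        have h := (Ps.mapSurjective (QuotientGroup.mk'_surjective C')).3 (Q := ⊤) (hq.to_subgroup _) le_top
        rw [Sylow.coe_mapSurjective] at h
        exact h.symm
      obtain ⟨k, hk, e⟩ := htop.ge (Subgroup.mem_top (QuotientGroup.mk' C' ⟨g, hg⟩))
      exact ⟨k, hk, (k : G)⁻¹ * g, Subgroup.mem_subgroupOf.1 (QuotientGroup.eq.1 e), by group⟩
    rw [← e]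
    exact real_of_commute (hc.norm hk.1.1) fun a ha => (mem_centralizer_iff.1 hc'.2 a ha).symm
  have e : x = n⁻¹ * (n * x) := by group
  rw [e]
  refine hy.comp ?_
  rw [map_conj_eq_self_iff.2 (mul_mem (hTN hn) hx)]
  exact hTreal _ (inv_mem hn)
termination_by Nat.card (S : Subgroup G) - k

/-- Control of strong fusion, unless some bad subgroup exists. -/
theorem Core.holdsOn_top (hc : Core S Z D J)
    (hind : ∀ U : Subgroup G, normalizer (U : Set G) ≠ ⊤ → IsFN p (S : Subgroup G) U →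
      J ≤ (S : Subgroup G) ⊓ normalizer (U : Set G) →
      HoldsOn ((S : Subgroup G) ⊓ normalizer (U : Set G)) (Real Z) (normalizer (U : Set G)))
    (hbad : ∀ U R H : Subgroup G, Bad S Z D J U R H → False) :
    HoldsOn (S : Subgroup G) (Real Z) ⊤ := by
  classical
  haveI := hc.dnormal
  set s := Nat.card (S : Subgroup G) with hs
  have claim : ∀ (m : ℕ) (U : Subgroup G),
      (s - Nat.card ((S : Subgroup G) ⊓ normalizer (U : Set G) : Subgroup G)) * (s + 1) + (s - Nat.card U) = m →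
      IsFN p (S : Subgroup G) U → D ≤ U → ¬ U ⊓ Z ≤ D →
      HoldsOn ((S : Subgroup G) ⊓ normalizer (U : Set G)) (Real Z) (normalizer (U : Set G)) := by
    intro m
    induction m using Nat.strong_induction_on with
    | _ m ih =>
    intro U hm hU hDU hUZ
    set R := (S : Subgroup G) ⊓ normalizer (U : Set G) with hR
    set r := Nat.card R with hr
    have hrs : r ≤ s := card_le_of_le inf_le_left
    have hlo : ∀ V : Subgroup G, IsFN p (S : Subgroup G) V → D ≤ V → ¬ V ⊓ Z ≤ D →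
        (r < Nat.card ((S : Subgroup G) ⊓ normalizer (V : Set G) : Subgroup G) ∨
          (r ≤ Nat.card ((S : Subgroup G) ⊓ normalizer (V : Set G) : Subgroup G) ∧ Nat.card U < Nat.card V)) →
        HoldsOn ((S : Subgroup G) ⊓ normalizer (V : Set G)) (Real Z) (normalizer (V : Set G)) := by
      intro V hV h1 h2 h3
      refine ih _ ?_ V rfl hV h1 h2
      have h4 : Nat.card ((S : Subgroup G) ⊓ normalizer (V : Set G) : Subgroup G) ≤ s := card_le_of_le inf_le_left
      have h5 := card_le_of_le hU.1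
      have h6 := card_le_of_le hV.1
      rw [← hm]
      rcases h3 with h3 | ⟨h3, h3'⟩
      · have : (s - Nat.card ((S : Subgroup G) ⊓ normalizer (V : Set G) : Subgroup G) + 1) * (s + 1) ≤
            (s - r) * (s + 1) := Nat.mul_le_mul_right _ (by omega)
        have h7 : (s - Nat.card ((S : Subgroup G) ⊓ normalizer (V : Set G) : Subgroup G) + 1) * (s + 1) =
            (s - Nat.card ((S : Subgroup G) ⊓ normalizer (V : Set G) : Subgroup G)) * (s + 1) + (s + 1) := by ring
        omega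
      · have : (s - Nat.card ((S : Subgroup G) ⊓ normalizer (V : Set G) : Subgroup G)) * (s + 1) ≤
            (s - r) * (s + 1) := Nat.mul_le_mul_right _ (by omega)
        omega
    have hgood : HoldsAbove (S : Subgroup G) (Real Z) (r - 1) := by
      refine hc.goodAbove _ fun V hV h1 h2 h3 x hx => ?_
      by_cases hVS : V = S
      · subst hVS; exact real_of_mem (hc.normS hx)
      have h4 := card_lt_card_inf_normalizer S.2 hV.1 hVS
      refine hlo V hV h1 h2 (Or.inl (by omega)) V x hx (le_inf hV.1 le_normalizer) ?_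
      rw [map_conj_eq_self_iff.2 hx]; exact le_inf hV.1 le_normalizer
    have hrpos : 0 < r := Nat.card_pos
    -- a conjugate with Sylow normalizer
    have hmove : ∀ V : Subgroup G, V ≤ (S : Subgroup G) → R ≤ normalizer (V : Set G) → D ≤ V → ¬ V ⊓ Z ≤ D →
        (r < Nat.card ((S : Subgroup G) ⊓ normalizer (V : Set G) : Subgroup G) ∨ Nat.card U < Nat.card V) →
        HoldsOn R (Real Z) (normalizer (V : Set G)) := by
      intro V hVS hRV h1 h2 h3
      obtain ⟨g0, hU'⟩ := exists_isFN_conj S (S.2.to_le hVS)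
      obtain ⟨g, hg, hg'⟩ := exists_conj_into S.2 hU' rfl
      set T := (S : Subgroup G) ⊓ normalizer (V : Set G) with hT
      have hRT : R ≤ T := le_inf inf_le_left hRV
      have hgT : Real Z T g := hgood T g (by have := card_le_of_le hRT; omega) inf_le_left (hg'.trans inf_le_left)
      rw [← hg] at hU' hg'
      set V' := V.map (MulAut.conj g).toMonoidHom
      have hD' : D ≤ V' := by
        rw [← map_conj_eq_self_iff.2 (show g ∈ normalizer (D : Set G) by rw [Subgroup.normalizer_eq_top D]; trivial)]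
        exact Subgroup.map_mono h1
      have hZ' : ¬ V' ⊓ Z ≤ D := by
        obtain ⟨z, hz, hzD⟩ := SetLike.not_le_iff_exists.1 h2
        obtain ⟨x, hx, e⟩ := hgT
        refine fun hle => hzD ?_
        have hmem : g * z * g⁻¹ ∈ V' ⊓ Z := Subgroup.mem_inf.2 ⟨⟨z, hz.1, rfl⟩, by
          rw [← e z (le_inf hVS le_normalizer hz.1)]
          exact (mem_normalizer_iff.1 hx z).1 hz.2⟩
        simpa [mul_assoc] using hc.dnormal.conj_mem _ (hle hmem) g⁻¹
      have h5 : Nat.card T ≤ Nat.card ((S : Subgroup G) ⊓ normalizer (V' : Set G) : Subgroup G) := by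
        rw [← card_map_conj T g]; exact card_le_of_le hg'
      have h6 : Nat.card V' = Nat.card V := card_map_conj _ _
      have h7 := hlo V' hU' hD' hZ' (by
        have := card_le_of_le hRT
        rcases h3 with h3 | h3
        · exact Or.inl (by omega)
        · exact Or.inr ⟨by omega, by omega⟩)
      refine HoldsOn.mono ?_ hRT le_rfl
      exact holdsOn_conj hg' hgT (fun x hx => map_conj_normalizer_le V g ⟨x, hx, rfl⟩) h7
    by_contra hcon
    -- the minimal bad subgroup
    obtain ⟨H, ⟨hRH, hHN, hH⟩, hmin⟩ := Set.exists_min_image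
      {H : Subgroup G | R ≤ H ∧ H ≤ normalizer (U : Set G) ∧ ¬ HoldsOn R (Real Z) H}
      (fun H => Nat.card H) (Set.toFinite _) ⟨normalizer (U : Set G), inf_le_right, le_rfl, hcon⟩
    have htop : J ≤ R → normalizer (U : Set G) = ⊤ := fun hJ => by
      by_contra hne
      exact hcon (hind U hne hU hJ)
    have hRtop : J ≤ R → R = S := fun hJ => by
      rw [hR, htop hJ, inf_top_eq]
    refine hbad U R H
      { DU := hDU, UZ := hUZ, UR := le_inf hU.1 le_normalizer, RS := inf_le_left, RH := hRH, HU := hHN,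
        idx := ?_, bad := hH, small := ?_, bigger := ?_, line := ?_, climb := ?_, top := hRtop }
    · intro hd
      refine hU.2 (hd.trans ?_)
      rw [← Subgroup.relIndex_mul_relIndex R H (normalizer (U : Set G)) hRH hHN]
      exact dvd_mul_right _ _
    · intro H' hRH' hlt
      by_contra hb
      exact (card_lt_of_lt hlt).not_ge (hmin H' ⟨hRH', hlt.le.trans hHN, hb⟩)
    · intro U' hlt hle hn
      refine (hmove U' (hle.trans inf_le_left) hn (hDU.trans hlt.le) (fun h => hUZ ((inf_le_inf_right _ hlt.le).trans h))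
        (Or.inr (card_lt_of_lt hlt))).mono le_rfl inf_le_right
    · intro V h1 h2 h3 h4
      have hVZ : ¬ V ⊓ Z ≤ D := by rwa [inf_eq_left.2 (h3.trans inf_le_right)]
      have hVS : V ≤ (S : Subgroup G) := (h3.trans inf_le_right).trans hc.le
      by_cases hlt : r < Nat.card ((S : Subgroup G) ⊓ normalizer (V : Set G) : Subgroup G)
      · exact (hmove V hVS h4 h1 hVZ (Or.inl hlt)).mono le_rfl inf_le_right
      have hTR : (S : Subgroup G) ⊓ normalizer (V : Set G) = R :=
        (eq_of_le_of_card_ge (le_inf inf_le_left h4) (not_lt.1 hlt)).symm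
      have hJR : J ≤ R := by
        rw [← hTR]
        refine le_inf hc.jle fun j hj => map_conj_eq_self_iff.1 (eq_of_le_of_card_ge (map_conj_le_iff.2 fun v hv => ?_)
          (card_map_conj _ _).ge)
        rw [hc.jcent j hj v (h3 hv).2, mul_inv_cancel_right]
        exact hv
      have hRS := hRtop hJR
      have hVn : normalizer (V : Set G) ≠ ⊤ := fun h =>
        h2 (hc.dmax V (Subgroup.normalizer_eq_top_iff.1 h) (h3.trans inf_le_right))
      have hVfn : IsFN p (S : Subgroup G) V := ⟨hVS, by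
        rw [hTR, hRS]; exact not_dvd_relIndex_sylow S (by rw [← hRS]; exact h4)⟩
      have := hind V hVn hVfn (hTR.symm ▸ hJR)
      rw [hTR] at this
      exact this.mono le_rfl inf_le_right
    · intro hJ V h1 h2 h3 h4 h5
      have hne : R ≠ S := fun e => hJ (e ▸ hc.jle)
      have hlt : r < Nat.card ((S : Subgroup G) ⊓ normalizer (V : Set G) : Subgroup G) :=
        lt_of_lt_of_le (card_lt_card_inf_normalizer S.2 inf_le_left hne) (card_le_of_le (le_inf inf_le_left h4))
      exact hH ((hmove V (h3.trans inf_le_left) (hRH.trans h5) h1 h2 (Or.inl hlt)).mono le_rfl h5)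
  intro A h _ hA hh
  by_cases hbot : A = ⊥
  · subst hbot
    exact ⟨1, one_mem _, fun a ha => by rw [Subgroup.mem_bot] at ha; subst ha; group⟩
  refine hc.goodAbove 1 (fun U hU h1 h2 _ x hx => ?_) A h (A.one_lt_card_iff_ne_bot.2 hbot) hA hh
  refine claim _ U rfl hU h1 h2 U x hx (le_inf hU.1 le_normalizer) ?_
  rw [map_conj_eq_self_iff.2 hx]; exact le_inf hU.1 le_normalizer

end CfsgLib.LocalEven.ZJWeight
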