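import Cfsg.Agent.Lib.LocalEven.ZJWeight.Linear

/-!
The linear statement: a subgroup `Γ₀` containing a Sylow subgroup has elements with every weight on
an invariant subgroup, and a subgroup acting on a plane as a Borel subgroup of `SL(2, p)`.
-/

set_option autoImplicit false
set_option linter.unusedSectionVars false

open scoped MatrixGroups

namespace CfsgLib.LocalEven.ZJWeight

open Subgroup Matrix CfsgLib.SL2Unipotent CfsgLib.Techniques

universe u v

variable {p : ℕ} [hp : Fact p.Prime] {Γ : Type u} [Group Γ] [Finite Γ] {W : Type v} [AddCommGroup W]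
  [Module (ZMod p) W] [FiniteDimensional (ZMod p) W]

local notation "𝕂" => AlgebraicClosure (ZMod p)
local notation "cast𝕂" => (ZMod.castHom (dvd_refl p) 𝕂)

/-- A Borel subgroup of `SL(2, p)` inside `Γ₀`, acting on a plane. -/
def HasPlane (ρ : Γ →* Module.End (ZMod p) W) (Γ₀ : Subgroup Γ) : Prop :=
  ∃ (B : Subgroup Γ) (θ : ↥B →* SL(2, ZMod p)) (Wv : Submodule (ZMod p) W)
    (π : ↥Wv →ₗ[ZMod p] (Fin 2 → ZMod p)), B ≤ Γ₀ ∧ θ.range = borel (ZMod p) ∧ Function.Surjective π ∧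
      ∃ hinv : ∀ g : B, ∀ w ∈ Wv, ρ g w ∈ Wv,
        ∀ (g : B) (w : Wv), π ⟨ρ g w, hinv g w w.2⟩ = (θ g).1 *ᵥ π w

/-- Every scalar is a weight on `V₁` of an element of `Γ₀`. -/
def HasWeights (ρ : Γ →* Module.End (ZMod p) W) (Γ₀ : Subgroup Γ) (V₁ : AddSubgroup W) : Prop :=
  ∀ l : (ZMod p)ˣ, ∃ t ∈ Γ₀, ∃ u ∈ V₁, u ≠ 0 ∧ ρ t u = (l : ZMod p) • u

/-- The diagonal element. -/
def dg {F : Type*} [Field F] (l : Fˣ) : SL(2, F) :=
  ⟨!![(l : F), 0; 0, (↑l⁻¹ : F)], by simp [Matrix.det_fin_two]⟩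

theorem dg_mem_borel {F : Type*} [Field F] (l : Fˣ) : dg l ∈ borel F := mem_borel.2 (by simp [dg])

theorem dg_mulVec {F : Type*} [Field F] (l : Fˣ) (r : F) : (dg l).1 *ᵥ ![r, 0] = ![(l : F) * r, 0] := by
  rw [dg]
  ext i
  fin_cases i <;> simp [mul_comm]

variable (ρ : Γ →* Module.End (ZMod p) W)

theorem quad_pow {a : Γ} (ha : (ρ a - 1) * (ρ a - 1) = 0) : ρ a ^ p = 1 := by
  have key : ∀ n : ℕ, ρ a ^ n = 1 + n • (ρ a - 1) := by
    intro n
    induction n with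
    | zero => simp
    | succ n ih =>
      rw [pow_succ, ih, add_mul, one_mul, smul_mul_assoc, succ_nsmul]
      have : (ρ a - 1) * ρ a = ρ a - 1 := by
        calc (ρ a - 1) * ρ a = (ρ a - 1) * (ρ a - 1) + (ρ a - 1) := by noncomm_ring
          _ = _ := by rw [ha, zero_add]
      rw [this]; abel
  rw [key, ← Nat.cast_smul_eq_nsmul (ZMod p), ZMod.natCast_self, zero_smul, add_zero]

theorem quad_conj {a : Γ} (ha : (ρ a - 1) * (ρ a - 1) = 0) (g : Γ) :
    (ρ (g * a * g⁻¹) - 1) * (ρ (g * a * g⁻¹) - 1) = 0 := by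
  have h1 : ρ g⁻¹ * ρ g = 1 := by rw [← map_mul, inv_mul_cancel, map_one]
  have h2 : ρ g * ρ g⁻¹ = 1 := by rw [← map_mul, mul_inv_cancel, map_one]
  have e : ρ (g * a * g⁻¹) - 1 = ρ g * (ρ a - 1) * ρ g⁻¹ := by
    rw [mul_sub, sub_mul, mul_one, h2, map_mul, map_mul]
  rw [e]
  calc ρ g * (ρ a - 1) * ρ g⁻¹ * (ρ g * (ρ a - 1) * ρ g⁻¹)
      = ρ g * (ρ a - 1) * (ρ g⁻¹ * ρ g) * ((ρ a - 1) * ρ g⁻¹) := by simp only [mul_assoc]
    _ = ρ g * ((ρ a - 1) * (ρ a - 1)) * ρ g⁻¹ := by rw [h1]; simp only [mul_one, mul_assoc]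
    _ = 0 := by rw [ha, mul_zero, zero_mul]

theorem data_of_top (hp2 : p ≠ 2) (hρ : Function.Injective ρ) {a : Γ} (ha : (ρ a - 1) * (ρ a - 1) = 0)
    (hna : a ∉ Cfsg.pCore p Γ) : HasPlane ρ ⊤ ∧ HasWeights ρ ⊤ ⊤ := by
  obtain ⟨M, θ, j, hθ, hj, hjm⟩ := CfsgLib.PLocal.exists_natural_submodule hp2 ρ hρ ha hna
  refine ⟨?_, fun l => ?_⟩
  · let M' := (borel (ZMod p)).comap θ
    let e := M'.equivMapOfInjective M.subtype M.subtype_injective
    have hcoe : ∀ g : M'.map M.subtype, ((e.symm g : M) : Γ) = g := fun g => by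
      conv_rhs => rw [← e.apply_symm_apply g]
      rfl
    have hinv : ∀ g : M'.map M.subtype, ∀ w ∈ LinearMap.range j, ρ g w ∈ LinearMap.range j := by
      rintro g _ ⟨z, rfl⟩
      exact ⟨_, (hjm (e.symm g) z).symm.trans (by rw [hcoe])⟩
    refine ⟨M'.map M.subtype, θ.comp (M'.subtype.comp e.symm.toMonoidHom), LinearMap.range j,
      (LinearEquiv.ofInjective j hj).symm.toLinearMap, le_top, le_antisymm ?_ ?_,
      (LinearEquiv.ofInjective j hj).symm.surjective, hinv, fun g w => ?_⟩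
    · rintro _ ⟨g, rfl⟩; exact (e.symm g).2
    · intro A hA
      obtain ⟨m, rfl⟩ := hθ A
      exact ⟨e ⟨m, hA⟩, by simp⟩
    · obtain ⟨z, rfl⟩ := (LinearEquiv.ofInjective j hj).surjective w
      rw [LinearEquiv.coe_coe, LinearEquiv.symm_apply_apply, LinearEquiv.symm_apply_eq]
      apply Subtype.ext
      show ρ (g : Γ) (j z) = j _
      rw [← hcoe g]
      exact hjm _ z
  · obtain ⟨m, hm⟩ := hθ (dg l)
    refine ⟨m, Subgroup.mem_top _, j ![1, 0], AddSubgroup.mem_top _, fun h => ?_, ?_⟩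
    · simpa using congrFun (hj (h.trans (map_zero j).symm)) 0
    · rw [hjm, hm, ← map_smul]
      congr 1
      rw [dg_mulVec, Matrix.smul_cons, Matrix.smul_cons, Matrix.smul_empty, smul_eq_mul, smul_eq_mul, mul_zero]

theorem data_of_pair (hp2 : p ≠ 2) (Γ₀ : Subgroup Γ) (V₁ : AddSubgroup W)
    (hV₁ : ∀ g ∈ Γ₀, ∀ w ∈ V₁, ρ g w ∈ V₁) {v : W} (hvV : v ∈ V₁) {a b : Γ}
    (ha : (ρ a - 1) * (ρ a - 1) = 0) (hb : (ρ b - 1) * (ρ b - 1) = 0) (haΓ : a ∈ Γ₀) (hva : ρ a v = v)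
    (hstab : ∀ g, ρ g v = v → g ∈ Γ₀) (hnot : ¬ closure ({a, b} : Set Γ) ≤ Γ₀)
    (hmark : ∀ Q ≤ closure ({a, b} : Set Γ), IsPGroup p Q → a ∈ Q → ∀ c ∈ Q, (ρ c - 1) * (ρ c - 1) = 0 → c ∈ Γ₀)
    (hN : ∀ Q ≤ closure ({a, b} : Set Γ), IsPGroup p Q → a ∈ Q →
      ∀ g ∈ closure ({a, b} : Set Γ), g ∈ normalizer (Q : Set Γ) → g ∈ Γ₀)
    (hap : IsPGroup p (zpowers a)) (hbp : IsPGroup p (zpowers b)) :
    HasPlane ρ Γ₀ ∧ HasWeights ρ Γ₀ V₁ := by
  classical
  set D := closure ({a, b} : Set Γ) with hD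
  let a' : D := ⟨a, subset_closure (Set.mem_insert _ _)⟩
  let b' : D := ⟨b, subset_closure (Set.mem_insert_of_mem _ rfl)⟩
  have hgen : closure ({a', b'} : Set D) = ⊤ := by
    refine Subgroup.map_injective D.subtype_injective ?_
    rw [MonoidHom.map_closure, ← MonoidHom.range_eq_map, Subgroup.range_subtype, Set.image_pair,
      Subgroup.coe_subtype]
  set Wv := Submodule.span (ZMod p) (Set.range fun h : D => ρ h v) with hWv
  have hinv : ∀ (h : D), ∀ w ∈ Wv, ρ h w ∈ Wv := by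
    intro h
    have : Wv ≤ Wv.comap (ρ h) := Submodule.span_le.2 (by
      rintro _ ⟨k, rfl⟩
      exact Submodule.subset_span ⟨h * k, by simp [map_mul]⟩)
    exact fun w hw => this hw
  have hv : v ∈ Wv := Submodule.subset_span ⟨1, by simp⟩
  let σ : D →* Module.End (ZMod p) Wv :=
    { toFun := fun h => (ρ h).restrict (hinv h)
      map_one' := by refine LinearMap.ext fun w => Subtype.ext ?_; simp [LinearMap.restrict_apply]
      map_mul' := fun x y => by refine LinearMap.ext fun w => Subtype.ext ?_; simp [LinearMap.restrict_apply] }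
  have hσ : ∀ (h : D) (w : Wv), ((σ h w : Wv) : W) = ρ h w := fun h w => rfl
  have hq : ∀ c : D, (ρ c - 1) * (ρ c - 1) = 0 → (σ c - 1) * (σ c - 1) = 0 := fun c hc =>
    LinearMap.ext fun w => Subtype.ext (by
      have := LinearMap.congr_fun hc (w : W)
      simpa [hσ, LinearMap.sub_apply, Module.End.mul_apply] using this)
  obtain ⟨Q, hQ⟩ := ((hap.comap_of_injective D.subtype D.subtype_injective).exists_le_sylow)
  have haQ : a' ∈ (Q : Subgroup D) := hQ (Subgroup.mem_zpowers a)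
  have hQΓ : ∀ c ∈ (Q : Subgroup D), (ρ (c : Γ) - 1) * (ρ (c : Γ) - 1) = 0 → (c : Γ) ∈ Γ₀ := fun c hc =>
    hmark ((Q : Subgroup D).map D.subtype) (map_subtype_le _) (Q.2.map _) ⟨a', haQ, rfl⟩ c ⟨c, hc, rfl⟩
  have hn : ∃ d, ¬ IsNilpotent (σ d - 1) := by
    by_contra! hcon
    -- the image is a `p`-group, so `D` is the product of the pointwise stabiliser and `Q`
    have hDQ : ∀ d : D, ∃ k ∈ σ.ker, ∃ q ∈ (Q : Subgroup D), d = k * q := by
      intro d
      have hrp : IsPGroup p (D ⧸ σ.ker) := by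
        intro y
        obtain ⟨x, rfl⟩ := QuotientGroup.mk'_surjective σ.ker y
        obtain ⟨n, hn⟩ := CfsgLib.QuadPair.eq_one_of_isNilpotent_pow (p := p) (hcon x)
        exact ⟨n, by rw [← map_pow]; exact (QuotientGroup.eq_one_iff _).2 (by rw [MonoidHom.mem_ker, map_pow, hn])⟩
      have htop : (Q : Subgroup D).map (QuotientGroup.mk' σ.ker) = ⊤ := by
        have h := (Q.mapSurjective (QuotientGroup.mk'_surjective σ.ker)).3 (Q := ⊤) (hrp.to_subgroup _) le_top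
        rw [Sylow.coe_mapSurjective] at h
        exact h.symm
      obtain ⟨q, hq, e⟩ := htop.ge (Subgroup.mem_top (QuotientGroup.mk' σ.ker d))
      refine ⟨d * q⁻¹, ?_, q, hq, by simp⟩
      have h1 : q⁻¹ * d ∈ σ.ker := QuotientGroup.eq.1 e
      have := (MonoidHom.normal_ker σ).conj_mem _ h1 q
      simpa [mul_assoc] using this
    have hker : ∀ k ∈ σ.ker, (k : Γ) ∈ Γ₀ := fun k hk => hstab _ (by
      have := congrArg (fun f : Module.End (ZMod p) Wv => ((f ⟨v, hv⟩ : Wv) : W)) hk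
      simpa [hσ] using this)
    obtain ⟨R, hR⟩ := ((hbp.comap_of_injective D.subtype D.subtype_injective).exists_le_sylow)
    obtain ⟨d, hd⟩ := MulAction.exists_smul_eq D Q R
    obtain ⟨k, hk, q, hq', rfl⟩ := hDQ d
    have hbR : b' ∈ (R : Subgroup D) := hR (Subgroup.mem_zpowers b)
    rw [← hd, Sylow.coe_subgroup_smul, Subgroup.mem_pointwise_smul_iff_inv_smul_mem] at hbR
    have hb' : k⁻¹ * b' * k ∈ (Q : Subgroup D) := by
      have h1 : (k * q)⁻¹ * b' * (k * q) ∈ (Q : Subgroup D) := by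
        simpa [MulAut.smul_def, MulAut.conj_symm_apply, mul_assoc] using hbR
      have := mul_mem (mul_mem hq' h1) (inv_mem hq')
      simpa [mul_assoc] using this
    have h2 := hQΓ _ hb' (by simpa using quad_conj ρ hb ((k : Γ))⁻¹)
    have hbΓ : b ∈ Γ₀ := by
      simpa [mul_assoc] using mul_mem (mul_mem (hker k hk) h2) (inv_mem (hker k hk))
    exact hnot ((closure_le _).2 (by rintro x (rfl | rfl) <;> assumption))
  have hspan : Submodule.span (ZMod p) (Set.range fun h : D => σ h ⟨v, hv⟩) = ⊤ := by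
    refine Submodule.map_injective_of_injective Wv.injective_subtype ?_
    rw [Submodule.map_span, Submodule.map_top, Submodule.range_subtype, ← Set.range_comp]
    rfl
  obtain ⟨μ, φ, π, hμ, hφa, hφb, hπ, hπ0, hπ1⟩ :=
    exists_functional σ hgen (hq a' ha) (hq b' hb) (v := ⟨v, hv⟩) (Subtype.ext hva) hspan hn
  obtain ⟨S, B, θ, hS, hS10, hBN, hθr, hθS, hθA⟩ := exists_borel hp2 hμ φ hφa hφb Q haQ
  have hBΓ : ∀ g ∈ B, (g : Γ) ∈ Γ₀ := fun g hg =>
    hN ((Q : Subgroup D).map D.subtype) (map_subtype_le _) (Q.2.map _) ⟨a', haQ, rfl⟩ g g.2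
      (le_normalizer_map D.subtype ⟨g, hBN hg, rfl⟩)
  -- descend to the prime field
  have hS00 : S 0 0 ≠ 0 := fun h0 => hS (by rw [Matrix.det_fin_two, hS10, h0]; ring)
  obtain ⟨f, hf⟩ : ∃ f : Module.Dual (ZMod p) 𝕂, f ((S 0 0)⁻¹ * π ⟨v, hv⟩ 0) ≠ 0 := by
    by_contra! hcon
    exact mul_ne_zero (inv_ne_zero hS00) hπ0 ((Module.forall_dual_apply_eq_zero_iff (ZMod p) _).1 hcon)
  let π' : Wv →ₗ[ZMod p] (Fin 2 → ZMod p) :=
    (f.compLeft (Fin 2)).comp ((S⁻¹.mulVecLin.restrictScalars (ZMod p)).comp π)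
  have hπ'v : π' ⟨v, hv⟩ = ![f ((S 0 0)⁻¹ * π ⟨v, hv⟩ 0), 0] := by
    have e : S⁻¹ *ᵥ π ⟨v, hv⟩ = ![(S 0 0)⁻¹ * π ⟨v, hv⟩ 0, 0] := by
      have h1 : S *ᵥ ![(S 0 0)⁻¹ * π ⟨v, hv⟩ 0, 0] = π ⟨v, hv⟩ := by
        funext i
        fin_cases i <;> simp [Matrix.mulVec, dotProduct, Fin.sum_univ_two, hS10, hπ1, hS00]
      rw [← h1, Matrix.mulVec_mulVec, Matrix.nonsing_inv_mul _ (isUnit_iff_ne_zero.2 hS), Matrix.one_mulVec, h1]
    funext i
    show f ((S⁻¹ *ᵥ π ⟨v, hv⟩) i) = _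
    rw [e]
    fin_cases i <;> simp
  have hπ'eq : ∀ (d : D) (A : SL(2, ZMod p)), (φ d).1 * S = S * A.1.map cast𝕂 →
      ∀ w, π' (σ d w) = A.1 *ᵥ π' w := by
    intro d A hA w
    have h1 : S⁻¹ *ᵥ π (σ d w) = A.1.map cast𝕂 *ᵥ (S⁻¹ *ᵥ π w) := by
      rw [hπ, Matrix.mulVec_mulVec, Matrix.mulVec_mulVec]
      congr 1
      calc S⁻¹ * (φ d).1 = S⁻¹ * ((φ d).1 * S) * S⁻¹ := by
            rw [Matrix.mul_assoc S⁻¹, Matrix.mul_assoc (φ d).1,
              Matrix.mul_nonsing_inv _ (isUnit_iff_ne_zero.2 hS), Matrix.mul_one]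
        _ = _ := by rw [hA, ← Matrix.mul_assoc, Matrix.nonsing_inv_mul _ (isUnit_iff_ne_zero.2 hS), Matrix.one_mul]
    funext i
    show f ((S⁻¹ *ᵥ π (σ d w)) i) = (A.1 *ᵥ π' w) i
    rw [h1]
    simp only [Matrix.mulVec, dotProduct, map_sum, Matrix.map_apply]
    refine Finset.sum_congr rfl fun k _ => ?_
    have hc : cast𝕂 (A.1 i k) = algebraMap (ZMod p) 𝕂 (A.1 i k) := RingHom.congr_fun (Subsingleton.elim _ _) _
    rw [hc, ← Algebra.smul_def, map_smul, smul_eq_mul]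
    rfl
  have hsurj : Function.Surjective π' := by
    rw [← LinearMap.range_eq_top]
    by_contra hne
    have h := CfsgLib.PLocal.eq_bot_of_sl2_stable (fun A z hz => by
      obtain ⟨w, rfl⟩ := hz
      obtain ⟨d, hd⟩ := hθA A
      exact ⟨σ d w, hπ'eq d A hd w⟩) hne
    have h2 : π' ⟨v, hv⟩ = 0 := by
      have := LinearMap.mem_range_self π' ⟨v, hv⟩
      rwa [h, Submodule.mem_bot] at this
    rw [hπ'v] at h2
    exact hf (by simpa using congrFun h2 0)
  refine ⟨?_, fun l => ?_⟩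
  · let e := B.equivMapOfInjective D.subtype D.subtype_injective
    have hcoe : ∀ g : B.map D.subtype, ((e.symm g : D) : Γ) = g := fun g => by
      conv_rhs => rw [← e.apply_symm_apply g]
      rfl
    refine ⟨B.map D.subtype, θ.comp e.symm.toMonoidHom, Wv, π', by rintro _ ⟨g, hg, rfl⟩; exact hBΓ g hg,
      by rw [MonoidHom.range_comp, MonoidHom.range_eq_top.2 e.symm.surjective, ← MonoidHom.range_eq_map, hθr],
      hsurj, fun g w hw => by rw [← hcoe g]; exact hinv _ w hw, fun g w => ?_⟩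
    have := hπ'eq (e.symm g) _ (hθS (e.symm g)) w
    refine Eq.trans (congrArg π' (Subtype.ext ?_)) this
    rw [hσ, hcoe]
  · obtain ⟨t, ht⟩ : ∃ t : B, θ t = dg l := by
      have : dg l ∈ θ.range := by rw [hθr]; exact dg_mem_borel l
      exact this
    set w₀ : Wv := ⟨v, hv⟩
    set T : Module.End (ZMod p) Wv := σ t - (l : ZMod p) • (1 : Module.End (ZMod p) Wv) with hT
    set U := Submodule.span (ZMod p) (Set.range fun k : ℕ => (σ (t : D) ^ k : Module.End (ZMod p) Wv) w₀)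
    have hUT : ∀ w ∈ U, σ (t : D) w ∈ U := by
      have : U ≤ U.comap (σ (t : D)) := Submodule.span_le.2 (by
        rintro _ ⟨k, rfl⟩
        exact Submodule.subset_span ⟨k + 1, by simp only [pow_succ', Module.End.mul_apply]⟩)
      exact fun w hw => this hw
    have hπT : ∀ w ∈ U, π' (T w) = 0 := by
      have : U ≤ LinearMap.ker (π'.comp T) := Submodule.span_le.2 (by
        rintro _ ⟨k, rfl⟩
        have hk : π' ((σ (t : D) ^ k : Module.End (ZMod p) Wv) w₀) = ((l : ZMod p) ^ k) • π' w₀ := by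
          induction k with
          | zero => simp
          | succ k ih =>
            rw [pow_succ', Module.End.mul_apply, hπ'eq _ _ (hθS t), ih, Matrix.mulVec_smul, ht, hπ'v, pow_succ,
              mul_smul]
            congr 1
            rw [dg_mulVec, Matrix.smul_cons, Matrix.smul_cons, Matrix.smul_empty, smul_eq_mul, smul_eq_mul, mul_zero]
        show π' (T _) = 0
        rw [hT, LinearMap.sub_apply, LinearMap.smul_apply, Module.End.one_apply, map_sub, map_smul,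
          hπ'eq _ _ (hθS t), hk, Matrix.mulVec_smul, ht, hπ'v, ← sub_eq_zero]
        rw [dg_mulVec]
        funext i
        fin_cases i <;> simp <;> ring)
      exact fun w hw => this hw
    obtain ⟨u, hu, hu0, hTu⟩ : ∃ u ∈ U, u ≠ 0 ∧ T u = 0 := by
      by_contra hcon
      push Not at hcon
      have hTU : ∀ w ∈ U, T w ∈ U := fun w hw => by
        rw [hT, LinearMap.sub_apply, LinearMap.smul_apply, Module.End.one_apply]
        exact U.sub_mem (hUT w hw) (U.smul_mem _ hw)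
      have hinj : Function.Injective (T.restrict hTU) := (injective_iff_map_eq_zero _).2 fun w hw => by
        by_contra hne
        exact hcon w w.2 (fun h => hne (Subtype.ext h)) (congrArg Subtype.val hw)
      obtain ⟨z, hz⟩ := LinearMap.surjective_of_injective hinj ⟨w₀, Submodule.subset_span ⟨0, by simp⟩⟩
      have := hπT z z.2
      rw [show T (z : Wv) = w₀ from congrArg Subtype.val hz, hπ'v] at this
      exact hf (by simpa using congrFun this 0)
    have hUV : ∀ w ∈ U, (w : W) ∈ V₁ := by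
      intro w hw
      induction hw using Submodule.span_induction with
      | mem x hx =>
        obtain ⟨k, rfl⟩ := hx
        induction k with
        | zero => simpa [w₀] using hvV
        | succ k ih =>
          show (((σ (t : D) ^ (k + 1) : Module.End (ZMod p) Wv) w₀ : Wv) : W) ∈ V₁
          rw [pow_succ', Module.End.mul_apply, hσ]
          exact hV₁ _ (hBΓ _ t.2) _ ih
      | zero => exact zero_mem _
      | add x y _ _ hx hy => exact add_mem hx hy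
      | smul c x _ hx =>
        rw [Submodule.coe_smul, ← ZMod.natCast_zmod_val c, Nat.cast_smul_eq_nsmul]
        exact nsmul_mem hx _
    refine ⟨(t : D), hBΓ _ t.2, u, hUV u hu, fun h => hu0 (Subtype.ext h), ?_⟩
    rw [hT, LinearMap.sub_apply, LinearMap.smul_apply, Module.End.one_apply, sub_eq_zero] at hTu
    have := congrArg Subtype.val hTu
    simpa [hσ] using this

theorem exists_data (hp2 : p ≠ 2) (hρ : Function.Injective ρ) (Γ₀ P : Subgroup Γ) (hP : IsPGroup p P)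
    (hPΓ : P ≤ Γ₀) (hsyl : ∀ Q ≤ Γ₀, IsPGroup p Q → ∃ γ ∈ Γ₀, Q.map (MulAut.conj γ).toMonoidHom ≤ P)
    (V₁ : AddSubgroup W) (hV₁ : ∀ g ∈ Γ₀, ∀ w ∈ V₁, ρ g w ∈ V₁) {v : W} (hvV : v ∈ V₁)
    (hPv : ∀ g ∈ P, ρ g v = v) (hstab : Γ₀ ≠ ⊤ → ∀ g, ρ g v = v → g ∈ Γ₀)
    (hN : Γ₀ ≠ ⊤ → normalizer ((closure ({c | (ρ c - 1) * (ρ c - 1) = 0} ∩ P) : Subgroup Γ) : Set Γ) ≤ Γ₀)
    (htop : Γ₀ = ⊤ → V₁ = ⊤) {a : Γ} (ha : (ρ a - 1) * (ρ a - 1) = 0) (hna : a ∉ Cfsg.pCore p Γ) :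
    HasPlane ρ Γ₀ ∧ HasWeights ρ Γ₀ V₁ := by
  by_cases hne : Γ₀ = ⊤
  · rw [hne, htop hne]
    exact data_of_top ρ hp2 hρ ha hna
  have hzp : ∀ c ∈ {c : Γ | (ρ c - 1) * (ρ c - 1) = 0}, IsPGroup p (zpowers c) := fun c hc =>
    IsPGroup.of_card_dvd_pow (n := 1) (by
      rw [pow_one, Nat.card_zpowers]
      exact orderOf_dvd_of_pow_eq_one (hρ (by rw [map_pow, quad_pow ρ hc, map_one])))
  obtain ⟨K, a, b, haΦ, hbΦ, haΓ, -, hnot, ⟨γ, hγ, hγP⟩, hK, hQ⟩ :=
    exists_pair {c : Γ | (ρ c - 1) * (ρ c - 1) = 0} (fun c hc g => quad_conj ρ hc g) Γ₀ P hne hP hPΓ hzp hsyl (hN hne)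
  refine data_of_pair ρ hp2 Γ₀ V₁ hV₁ (v := ρ γ⁻¹ v) (hV₁ _ (inv_mem hγ) _ hvV) haΦ hbΦ haΓ ?_ ?_ hnot
    (fun Q hQD hQp haQ c hc hcq => (hQ Q hQD hQp haQ).1 (subset_closure ⟨hcq, hc⟩))
    (fun Q hQD hQp haQ g hg hgQ => (hQ Q hQD hQp haQ).2 g (hK hg) hgQ) (hzp a haΦ) (hzp b hbΦ)
  · have h := congrArg (ρ γ⁻¹) (hPv _ hγP)
    rw [← Module.End.mul_apply, ← map_mul, show γ⁻¹ * (γ * a * γ⁻¹) = a * γ⁻¹ by group, map_mul,
      Module.End.mul_apply] at h
    exact h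
  · intro g hg
    have h := congrArg (ρ γ) hg
    rw [← Module.End.mul_apply, ← Module.End.mul_apply, ← Module.End.mul_apply, ← map_mul, ← map_mul, ← map_mul,
      mul_inv_cancel, map_one, Module.End.one_apply] at h
    have := hstab hne _ h
    simpa [mul_assoc] using mul_mem (mul_mem (inv_mem hγ) this) hγ

end CfsgLib.LocalEven.ZJWeight
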