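import Mathlib
import Cfsg.Agent.Lib.LocalEven.ZJWeight.Data
import Cfsg.Agent.Lib.LocalEven.ZJWeight.Affine
import Cfsg.Agent.Lib.LocalEven.ZJWeight.Control
import Cfsg.Agent.Lib.LocalEven.InvolvesFour

/-!
The module of a bad subgroup, and the two parts of the conclusion read off from a plane with a Borel
subgroup and from a weight.
-/

set_option autoImplicit false
set_option linter.unusedSectionVars false

open scoped MatrixGroups

namespace CfsgLib.LocalEven.ZJWeight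

open Subgroup Matrix
open CfsgLib.PLocal (natAut)

universe u

variable {G : Type u} [Group G] [Finite G] {p : ℕ} [hp : Fact p.Prime]

/-- The conclusion. -/
def Witness (p : ℕ) [Fact p.Prime] (Z : Subgroup G) : Prop :=
  Cfsg.Involves ↥(Cfsg.fOver (ZMod p)) ↥(normalizer (Z : Set G)) ∧
    ∃ y ∈ normalizer (Z : Set G), ∃ c ∈ Z, ∃ l : (ZMod p)ˣ,
      orderOf c = p ∧ orderOf l = p - 1 ∧ y * c * y⁻¹ = c ^ (l : ZMod p).val

/-- Automorphisms as linear maps. -/
def autEnd (p : ℕ) {V : Type u} [CommGroup V] [Module (ZMod p) (Additive V)] :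
    MulAut V →* Module.End (ZMod p) (Additive V) where
  toFun e := (MonoidHom.toAdditive e.toMonoidHom).toZModLinearMap p
  map_one' := LinearMap.ext fun _ => rfl
  map_mul' _ _ := LinearMap.ext fun _ => rfl

/-- `X / D` as a faithful module for a quotient of `H`. -/
theorem exists_rep (p : ℕ) [Fact p.Prime] {X H D : Subgroup G} [D.Normal] (hn : H ≤ normalizer (X : Set G))
    (hab : ∀ x ∈ X, ∀ y ∈ X, x * y * x⁻¹ * y⁻¹ ∈ D) (hpow : ∀ x ∈ X, x ^ p ∈ D) :
    ∃ (W : Type u) (_ : AddCommGroup W) (_ : Module (ZMod p) W) (_ : FiniteDimensional (ZMod p) W)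
      (Γ : Type u) (_ : Group Γ) (_ : Finite Γ) (π : ↥H →* Γ) (ρ : Γ →* Module.End (ZMod p) W)
      (ν : ↥X →* Multiplicative W), Function.Surjective π ∧ Function.Injective ρ ∧ Function.Surjective ν ∧
        (∀ x : X, ν x = 1 ↔ (x : G) ∈ D) ∧
        ∀ (h : ↥H) (x : X), ∃ hx : (h : G) * x * (h : G)⁻¹ ∈ X,
          Multiplicative.toAdd (ν ⟨_, hx⟩) = ρ (π h) (Multiplicative.toAdd (ν x)) := by
  set q := QuotientGroup.mk' D with hq
  set V := X.map q with hV
  have hcomm : ∀ a b : V, a * b = b * a := by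
    rintro ⟨_, a, ha, rfl⟩ ⟨_, b, hb, rfl⟩
    apply Subtype.ext
    show q a * q b = q b * q a
    rw [← map_mul, ← map_mul, hq, QuotientGroup.mk'_apply, QuotientGroup.mk'_apply, QuotientGroup.eq_iff_div_mem]
    simpa [div_eq_mul_inv, mul_assoc] using hab a ha b hb
  letI : CommGroup V := { (inferInstance : Group V) with mul_comm := hcomm }
  letI : Module (ZMod p) (Additive V) := AddCommGroup.zmodModule fun a => by
    obtain ⟨x, hx, e⟩ := (Additive.toMul a : V).2
    refine Additive.toMul.injective (Subtype.ext ?_)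
    show ((Additive.toMul a : V) : G ⧸ D) ^ p = 1
    rw [← e, ← map_pow]
    exact (QuotientGroup.eq_one_iff _).2 (hpow x hx)
  let conj : ↥H →* MulAut V := (V.normalizerMonoidHom).comp
    ((q.comp H.subtype).codRestrict (normalizer (V : Set (G ⧸ D))) fun h =>
      X.le_normalizer_map q ⟨(h : G), hn h.2, rfl⟩)
  refine ⟨Additive V, inferInstance, inferInstance, Module.Finite.of_finite, ↥conj.range, inferInstance,
    inferInstance, conj.rangeRestrict, (autEnd p).comp conj.range.subtype,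
    { toFun := fun x => Multiplicative.ofAdd (Additive.ofMul (q.subgroupMap X x))
      map_one' := by simp
      map_mul' := fun a b => by simp }, conj.rangeRestrict_surjective, ?_, ?_, fun x => ?_, fun h x => ?_⟩
  · intro a b e
    refine Subtype.ext (MulEquiv.ext fun x => ?_)
    exact Additive.ofMul.injective (LinearMap.congr_fun e (Additive.ofMul x))
  · intro w
    obtain ⟨x, hx⟩ := MonoidHom.subgroupMap_surjective q X (Additive.toMul (Multiplicative.toAdd w))
    exact ⟨x, by simp [hx]⟩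
  · rw [← QuotientGroup.eq_one_iff (x : G)]
    exact ⟨fun e => congrArg Subtype.val (Additive.ofMul.injective (Multiplicative.ofAdd.injective e)),
      fun e => congrArg (fun a => Multiplicative.ofAdd (Additive.ofMul a)) (Subtype.ext e)⟩
  · refine ⟨(mem_normalizer_iff.1 (hn h.2) x).1 x.2, congrArg Additive.ofMul (Subtype.ext ?_)⟩
    show q ((h : G) * x * (h : G)⁻¹) = q h * q x * (q h)⁻¹
    simp

/-- From a weight on the image of `Z`, a subgroup of order `p` of `Z`. -/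
theorem exists_weight_point {Z D : Subgroup G} (hZp : IsPGroup p Z) (hcomm : ∀ a ∈ Z, ∀ b ∈ Z, a * b = b * a)
    [D.Normal] (hDZ : D ≤ Z) {y z : G} (hy : y ∈ normalizer (Z : Set G)) (hz : z ∈ Z) (hzD : z ∉ D) (k : ℕ)
    (hyz : y * z * y⁻¹ * (z ^ k)⁻¹ ∈ D) :
    ∃ c ∈ Z, orderOf c = p ∧ y * c * y⁻¹ = c ^ k := by
  letI : CommGroup Z := { (inferInstance : Group Z) with mul_comm := fun a b => Subtype.ext (hcomm a a.2 b b.2) }
  let T : Z →* Z := (Z.normalizerMonoidHom ⟨y, hy⟩).toMonoidHom / powMonoidHom k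
  have hTv : ∀ w : Z, (T w : G) = y * w * y⁻¹ * ((w : G) ^ k)⁻¹ := fun w => by
    simp [T, div_eq_mul_inv]
  obtain ⟨w, hw, hw1⟩ : ∃ w : Z, T w = 1 ∧ w ≠ 1 := by
    by_contra hno
    push Not at hno
    have hinj : Function.Injective T := (injective_iff_map_eq_one T).2 hno
    have himg : (D.subgroupOf Z).map T = D.subgroupOf Z := by
      refine eq_of_le_of_card_ge ?_ (card_map_of_injective hinj).ge
      rintro _ ⟨d, hd, rfl⟩
      show (T d : G) ∈ D
      rw [hTv]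
      exact mul_mem (‹D.Normal›.conj_mem _ hd y) (inv_mem (pow_mem hd k))
    obtain ⟨d, hd, e⟩ := himg.ge (show T ⟨z, hz⟩ ∈ D.subgroupOf Z by
      show (T ⟨z, hz⟩ : G) ∈ D
      rw [hTv]; exact hyz)
    exact hzD (show ((⟨z, hz⟩ : Z) : G) ∈ D by rw [← hinj e]; exact hd)
  obtain ⟨m, hm⟩ := IsPGroup.iff_orderOf.1 hZp w
  have hm0 : m ≠ 0 := fun h => hw1 (orderOf_eq_one_iff.1 (by rw [hm, h, pow_zero]))
  refine ⟨((w ^ p ^ (m - 1) : Z) : G), SetLike.coe_mem _, ?_, ?_⟩
  · rw [Subgroup.orderOf_coe, orderOf_pow' w (pow_ne_zero _ hp.out.ne_zero), hm,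
      Nat.gcd_eq_right (pow_dvd_pow _ (Nat.sub_le m 1)), Nat.pow_div (Nat.sub_le m 1) hp.out.pos,
      show m - (m - 1) = 1 by omega, pow_one]
  · have h := hTv (w ^ p ^ (m - 1))
    rw [map_pow, hw, one_pow, OneMemClass.coe_one] at h
    exact mul_inv_eq_one.1 h.symm

/-- An element inducing a generator of `Aut C` gives the index. -/
theorem relIndex_eq_of_generator {Z : Subgroup G} {y c : G} (hy : y ∈ normalizer (Z : Set G)) (hc : orderOf c = p)
    {l : (ZMod p)ˣ} (hl : orderOf l = p - 1) (hyc : y * c * y⁻¹ = c ^ (l : ZMod p).val) :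
    (normalizer (Z : Set G) ⊓ centralizer (zpowers c : Set G)).relIndex
      (normalizer (Z : Set G) ⊓ normalizer (zpowers c : Set G)) = p - 1 := by
  set C := zpowers c with hC
  set k := (l : ZMod p).val with hk
  have hcard : Nat.card C = p := by rw [hC, Nat.card_zpowers, hc]
  set N := normalizer (Z : Set G) ⊓ normalizer (C : Set G) with hN
  let f : N →* MulAut C := C.normalizerMonoidHom.comp (inclusion inf_le_right)
  have hkp : ∀ n, (c : G) ^ k ^ n = c ↔ l ^ n = 1 := fun n => by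
    nth_rw 2 [← pow_one c]
    rw [pow_eq_pow_iff_modEq, hc, ← ZMod.natCast_eq_natCast_iff, Nat.cast_pow, hk, ZMod.natCast_zmod_val,
      Units.ext_iff, Units.val_pow_eq_pow_val, Units.val_one, Nat.cast_one]
  have hker : f.ker = (normalizer (Z : Set G) ⊓ centralizer (C : Set G)).subgroupOf N := by
    ext n
    rw [MonoidHom.mem_ker, mem_subgroupOf, Subgroup.mem_inf, mem_centralizer_iff]
    refine ⟨fun e => ⟨n.2.1, fun x hx => ?_⟩, fun e => MulEquiv.ext fun x => Subtype.ext ?_⟩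
    · have h : (n : G) * x * (n : G)⁻¹ = x := congrArg (fun φ : MulAut C => ((φ ⟨x, hx⟩ : C) : G)) e
      exact (mul_inv_eq_iff_eq_mul.1 h).symm
    · show (n : G) * x * (n : G)⁻¹ = x
      rw [← e.2 x x.2, mul_inv_cancel_right]
  have hyC : y ∈ normalizer (C : Set G) := by
    refine mem_normalizer_iff_map_conj_eq.2 (eq_of_le_of_card_ge ?_ (card_map_of_injective (MulAut.conj y).injective).ge)
    rw [hC, MonoidHom.map_zpowers, zpowers_le]
    exact ⟨k, by simpa using hyc.symm⟩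
  let y' : N := ⟨y, hy, hyC⟩
  have hpow : ∀ n, ((f y' ^ n) ⟨c, mem_zpowers c⟩ : G) = c ^ k ^ n := by
    intro n
    induction n with
    | zero => simp
    | succ n ih =>
      rw [pow_succ', MulAut.mul_apply]
      show y * ((f y' ^ n) ⟨c, mem_zpowers c⟩ : G) * y⁻¹ = _
      rw [ih, ← conj_pow, hyc, ← pow_mul, ← pow_succ']
  have hord : p - 1 ∣ orderOf (f y') := by
    rw [← hl]
    refine orderOf_dvd_of_pow_eq_one ((hkp _).1 ?_)
    rw [← hpow, pow_orderOf_eq_one, MulAut.one_apply]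
  haveI : IsCyclic C := isCyclic_of_prime_card hcard
  have haut : Nat.card (MulAut C) = p - 1 := by
    rw [IsCyclic.card_mulAut, hcard, Nat.totient_prime hp.out]
  rw [relIndex, ← hker, index_ker]
  refine Nat.dvd_antisymm (haut ▸ card_subgroup_dvd_card _) (hord.trans ?_)
  exact Subgroup.orderOf_dvd_natCard _ ⟨y', rfl⟩

variable {U X H : Subgroup G} {W : Type u} [AddCommGroup W] [Module (ZMod p) W] [FiniteDimensional (ZMod p) W]
  {Γ : Type u} [Group Γ] [Finite Γ]

/-- A plane with a Borel subgroup realised in `N(Z)` gives the section. -/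
theorem involves_of_plane (hp2 : p ≠ 2) {Z D : Subgroup G} [D.Normal] (π : ↥H →* Γ)
    (ρ : Γ →* Module.End (ZMod p) W) (ν : ↥X →* Multiplicative W) (hπ : Function.Surjective π)
    (hρ : Function.Injective ρ) (hν : Function.Surjective ν)
    (hνD : ∀ x : X, ν x = 1 ↔ (x : G) ∈ D)
    (hconj : ∀ (h : ↥H) (x : X), ∃ hx : (h : G) * x * (h : G)⁻¹ ∈ X,
      Multiplicative.toAdd (ν ⟨_, hx⟩) = ρ (π h) (Multiplicative.toAdd (ν x)))
    (hUZ : U ≤ normalizer (Z : Set G)) (hgUall : ∀ (g : ↥H), ∀ u ∈ U, (g : G) * u * (g : G)⁻¹ ∈ U)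
    (hXU : X ≤ U) (hUH : U ≤ H) (hπU : ∀ (u : G) (hu : u ∈ U), π ⟨u, hUH hu⟩ = 1)
    {Γ₀ : Subgroup Γ} (hreal : ∀ g : ↥H, π g ∈ Γ₀ → Real Z U g) (hplane : HasPlane ρ Γ₀) :
    Cfsg.Involves ↥(Cfsg.fOver (ZMod p)) ↥(normalizer (Z : Set G)) := by
  obtain ⟨B, θ, Wv, π', hB, hθ, hπ', hinv, heq⟩ := hplane
  -- elements of `N(Z)` acting on `U` as elements over `B`
  let N₀ : Subgroup G :=
    { carrier := {y | y ∈ normalizer (Z : Set G) ∧ ∃ g : ↥H, π g ∈ B ∧ ∀ u ∈ U, y * u * y⁻¹ = g * u * (g : G)⁻¹ ∧ (g : G) * u * (g : G)⁻¹ ∈ U}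
      one_mem' := ⟨one_mem _, 1, by simpa using one_mem B, fun u hu => by simpa using hu⟩
      mul_mem' := by
        rintro a b ⟨ha, g, hg, ha'⟩ ⟨hb, g', hg', hb'⟩
        refine ⟨mul_mem ha hb, g * g', by rw [map_mul]; exact mul_mem hg hg', fun u hu => ?_⟩
        obtain ⟨e1, h1⟩ := hb' u hu
        obtain ⟨e2, h2⟩ := ha' _ h1
        refine ⟨?_, by simpa [mul_assoc] using h2⟩
        calc a * b * u * (a * b)⁻¹ = a * (b * u * b⁻¹) * a⁻¹ := by group
          _ = _ := by rw [e1, e2]; simp [mul_assoc]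
      inv_mem' := by
        rintro a ⟨ha, g, hg, ha'⟩
        refine ⟨inv_mem ha, g⁻¹, by rw [map_inv]; exact inv_mem hg, fun u hu => ?_⟩
        have hmap : U.map (MulAut.conj (g : G)).toMonoidHom = U :=
          eq_of_le_of_card_ge (by rintro _ ⟨w, hw, rfl⟩; exact (ha' w hw).2)
            (card_map_of_injective (MulAut.conj (g : G)).injective).ge
        obtain ⟨w, hw, e⟩ := hmap.ge hu
        have e' : (g : G) * w * (g : G)⁻¹ = u := e
        obtain ⟨e1, -⟩ := ha' w hw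
        refine ⟨?_, ?_⟩
        · rw [← e', inv_inv, show (↑(g⁻¹) : G) = (g : G)⁻¹ from rfl, inv_inv]
          nth_rw 1 [← e1]
          group
        · rw [← e']
          simpa [mul_assoc] using hw }
  have hN₀ : N₀ ≤ normalizer (Z : Set G) := fun y hy => hy.1
  have huniq : ∀ g g' : ↥H, (∀ u ∈ U, (g : G) * u * (g : G)⁻¹ = g' * u * (g' : G)⁻¹) → π g = π g' := by
    intro g g' h
    refine hρ (LinearMap.ext fun w => ?_)
    obtain ⟨x, hx⟩ := hν (Multiplicative.ofAdd w)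
    obtain ⟨h1, e1⟩ := hconj g x
    obtain ⟨h2, e2⟩ := hconj g' x
    rw [show w = Multiplicative.toAdd (ν x) by rw [hx]; rfl, ← e1, ← e2]
    simp only [h x (hXU x.2)]
  choose sel hsel hsel' using fun y : N₀ => y.2.2
  let φ : N₀ →* B :=
    { toFun := fun y => ⟨π (sel y), hsel y⟩
      map_one' := Subtype.ext ((huniq _ 1 fun u hu => by rw [← (hsel' 1 u hu).1]; simp).trans (map_one π))
      map_mul' := fun a b => Subtype.ext (by
        refine (huniq _ (sel a * sel b) fun u hu => ?_).trans (map_mul π _ _)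
        rw [← (hsel' (a * b) u hu).1]
        obtain ⟨e1, h1⟩ := hsel' b u hu
        calc ((a * b : N₀) : G) * u * ((a * b : N₀) : G)⁻¹ = a * (b * u * (b : G)⁻¹) * (a : G)⁻¹ := by
              rw [Subgroup.coe_mul]; group
          _ = _ := by rw [e1, (hsel' a _ h1).1]; simp [mul_assoc]) }
  have hconjφ : ∀ (y : N₀) (x : X), ∃ hx : (y : G) * x * (y : G)⁻¹ ∈ X,
      Multiplicative.toAdd (ν ⟨_, hx⟩) = ρ (φ y) (Multiplicative.toAdd (ν x)) := by
    intro y x
    rw [(hsel' y x (hXU x.2)).1]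
    exact hconj _ _
  -- the preimage of the plane
  let Xv : Subgroup G :=
    { carrier := {g | ∃ h : g ∈ X, Multiplicative.toAdd (ν ⟨g, h⟩) ∈ Wv}
      one_mem' := ⟨one_mem _, by
        show Multiplicative.toAdd (ν 1) ∈ Wv
        rw [map_one]; exact Wv.zero_mem⟩
      mul_mem' := by
        rintro a b ⟨ha, ha'⟩ ⟨hb, hb'⟩
        exact ⟨mul_mem ha hb, by
          show Multiplicative.toAdd (ν (⟨a, ha⟩ * ⟨b, hb⟩)) ∈ Wv
          rw [map_mul]; exact Wv.add_mem ha' hb'⟩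
      inv_mem' := by
        rintro a ⟨ha, ha'⟩
        exact ⟨inv_mem ha, by
          show Multiplicative.toAdd (ν (⟨a, ha⟩⁻¹)) ∈ Wv
          rw [map_inv]; exact Wv.neg_mem ha'⟩ }
  have hXvX : Xv ≤ X := fun g hg => hg.1
  let τ : Xv →* Multiplicative (Fin 2 → ZMod p) :=
    { toFun := fun g => Multiplicative.ofAdd (π' ⟨Multiplicative.toAdd (ν ⟨g, g.2.1⟩), g.2.2⟩)
      map_one' := by
        rw [← ofAdd_zero, ← map_zero π']
        congr 2
        exact Subtype.ext (congrArg Multiplicative.toAdd (map_one ν))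
      map_mul' := fun a b => by
        rw [← ofAdd_add, ← map_add]
        congr 2
        exact Subtype.ext (congrArg Multiplicative.toAdd (map_mul ν ⟨a, a.2.1⟩ ⟨b, b.2.1⟩)) }
  have hτ : Function.Surjective τ := by
    intro z
    obtain ⟨w, hw⟩ := hπ' (Multiplicative.toAdd z)
    obtain ⟨x, hx⟩ := hν (Multiplicative.ofAdd (w : W))
    have hx' : Multiplicative.toAdd (ν x) = w := by rw [hx]; rfl
    refine ⟨⟨x, x.2, hx' ▸ w.2⟩, ?_⟩
    show Multiplicative.ofAdd (π' _) = z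
    rw [← ofAdd_toAdd z, ← hw]
    congr 2
    exact Subtype.ext hx'
  have hXvN : Xv ≤ N₀ := fun g hg => ⟨hUZ (hXU hg.1), ⟨g, hUH (hXU hg.1)⟩, by
    rw [hπU g (hXU hg.1)]; exact one_mem B, fun u hu => ⟨rfl, mul_mem (mul_mem (hXU hg.1) hu) (inv_mem (hXU hg.1))⟩⟩
  let ι : Xv →* N₀ := inclusion hXvN
  have hφι : ∀ g : Xv, φ (ι g) = 1 := fun g => Subtype.ext (by
    refine (huniq _ ⟨g, hUH (hXU g.2.1)⟩ fun u hu => ((hsel' (ι g) u hu).1).symm).trans ?_
    exact hπU g (hXU g.2.1))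
  have hact : ∀ (y : N₀) (g : Xv), ∃ g' : Xv, ι g' = y * ι g * y⁻¹ ∧ τ g' = natAut (θ (φ y)) (τ g) := by
    intro y g
    obtain ⟨hx, e⟩ := hconjφ y ⟨g, g.2.1⟩
    refine ⟨⟨(y : G) * g * (y : G)⁻¹, hx, e ▸ hinv (φ y) _ g.2.2⟩, rfl, ?_⟩
    apply Multiplicative.toAdd.injective
    rw [CfsgLib.PLocal.natAut_apply]
    show π' _ = _ *ᵥ π' _
    rw [← heq (φ y) ⟨_, g.2.2⟩]
    congr 1
    exact Subtype.ext e
  haveI hKn : (τ.ker.map ι).Normal := ⟨by
    rintro _ ⟨g, hg, rfl⟩ y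
    obtain ⟨g', e1, e2⟩ := hact y g
    exact ⟨g', by rw [SetLike.mem_coe, MonoidHom.mem_ker, e2, MonoidHom.mem_ker.1 hg, map_one], e1⟩⟩
  set q := QuotientGroup.mk' (τ.ker.map ι) with hq
  let θ' : N₀ ⧸ τ.ker.map ι →* SL(2, ZMod p) := QuotientGroup.lift _ (θ.comp φ) (by
    rintro _ ⟨g, hg, rfl⟩
    rw [MonoidHom.mem_ker, MonoidHom.comp_apply, hφι, map_one])
  have hle : τ.ker ≤ (q.comp ι).ker := fun g hg =>
    (QuotientGroup.eq_one_iff _).2 ⟨g, hg, rfl⟩
  let j : Multiplicative (Fin 2 → ZMod p) →* N₀ ⧸ τ.ker.map ι := τ.liftOfSurjective hτ ⟨q.comp ι, hle⟩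
  have hj : ∀ g, j (τ g) = q (ι g) := fun g => MonoidHom.liftOfRightInverse_comp_apply _ _ _ _ g
  have hφsurj : Function.Surjective φ := by
    intro b
    obtain ⟨g, hg⟩ := hπ b
    obtain ⟨y, hy, e⟩ := hreal g (hg ▸ hB b.2)
    have hgU : ∀ u ∈ U, (g : G) * u * (g : G)⁻¹ ∈ U := hgUall g
    refine ⟨⟨y, hy, g, hg ▸ b.2, fun u hu => ⟨e u hu, hgU u hu⟩⟩, Subtype.ext ?_⟩
    exact (huniq _ g fun u hu => ((hsel' _ u hu).1).symm.trans (e u hu)).trans hg
  obtain ⟨M, f, hf⟩ := exists_f_section hp2 θ' (le_antisymm (by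
      rintro _ ⟨x, rfl⟩
      obtain ⟨y, rfl⟩ := QuotientGroup.mk'_surjective _ x
      rw [← hθ]; exact ⟨φ y, rfl⟩) (by
      rw [← hθ]
      rintro _ ⟨b, rfl⟩
      obtain ⟨y, rfl⟩ := hφsurj b
      exact ⟨q y, rfl⟩)) j (by
    rw [injective_iff_map_eq_one]
    intro z hz
    obtain ⟨g, rfl⟩ := hτ z
    rw [hj] at hz
    obtain ⟨g', hg', e⟩ := (QuotientGroup.eq_one_iff _).1 hz
    rw [← inclusion_injective hXvN e]
    exact hg') (fun z => by
    obtain ⟨g, rfl⟩ := hτ z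
    rw [hj]
    show θ (φ (ι g)) = 1
    rw [hφι, map_one]) (fun x z => by
    obtain ⟨y, rfl⟩ := QuotientGroup.mk'_surjective _ x
    obtain ⟨g, rfl⟩ := hτ z
    obtain ⟨g', e1, e2⟩ := hact y g
    show _ = j (natAut (θ (φ y)) (τ g))
    rw [← e2, hj, hj, e1, map_mul, map_mul, map_inv])
  have h1 : Cfsg.Involves ↥(Cfsg.fOver (ZMod p)) ↥N₀ :=
    Involved.involves_of_surjective q (QuotientGroup.mk'_surjective _) (Involved.involves_of_hom M f hf)
  exact Involved.involves_of_subgroup (H := N₀.subgroupOf (normalizer (Z : Set G)))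
    (Involved.involves_of_surjective (subgroupOfEquivOfLe hN₀).toMonoidHom (MulEquiv.surjective _) h1)

end CfsgLib.LocalEven.ZJWeight
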