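import Mathlib
import Cfsg.Agent.Lib.LocalEven.ZJWeight.Module
import Cfsg.Agent.Lib.PLocal.Replacement
import Cfsg.Agent.Lib.PLocal.ZJ
import Cfsg.Agent.Lib.OddOrder.PuigSeries

/-!
A bad subgroup produces a plane with a Borel subgroup and every weight.
-/

set_option autoImplicit false
set_option linter.unusedSectionVars false

namespace CfsgLib.LocalEven.ZJWeight

open Subgroup CfsgLib.Techniques CfsgLib.Techniques.Fusion CfsgLib.PLocal

universe u

variable {G : Type u} [Group G] [Finite G] {p : ℕ} [hp : Fact p.Prime]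

/-- A `p`-group normalising `M ≰ D` fixes an element of order `p` of `M` modulo `D`. -/
theorem exists_fixed_mod {R M D : Subgroup G} [D.Normal] (hR : IsPGroup p R) (hMR : M ≤ R)
    (hn : R ≤ normalizer (M : Set G)) (hMD : ¬ M ≤ D) :
    ∃ v ∈ M, v ∉ D ∧ v ^ p ∈ D ∧ ∀ r ∈ R, r * v * r⁻¹ * v⁻¹ ∈ D := by
  set q := QuotientGroup.mk' D with hq
  set P := R.map q with hP
  haveI : ((M.map q).subgroupOf P).Normal :=
    (normal_subgroupOf_iff_le_normalizer (Subgroup.map_mono hMR)).2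
      ((Subgroup.map_mono hn).trans (M.le_normalizer_map q))
  have hPp : IsPGroup p P := hR.map q
  haveI : Group.IsNilpotent P := hPp.isNilpotent
  have hne : (M.map q).subgroupOf P ≠ ⊥ := by
    intro h
    obtain ⟨m, hm, hmD⟩ := SetLike.not_le_iff_exists.1 hMD
    have : (⟨q m, mem_map_of_mem q (hMR hm)⟩ : P) ∈ (M.map q).subgroupOf P := mem_subgroupOf.2 (mem_map_of_mem q hm)
    rw [h, Subgroup.mem_bot] at this
    exact hmD ((QuotientGroup.eq_one_iff _).1 (congrArg Subtype.val this))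
  have hne' := CfsgLib.OddOrder.PuigSeries.inf_center_ne_bot _ hne
  obtain ⟨⟨c, hc⟩, hc1⟩ := (Subgroup.ne_bot_iff_exists_ne_one).1 hne'
  obtain ⟨k, hk⟩ := IsPGroup.iff_orderOf.1 hPp c
  have hk0 : k ≠ 0 := fun h => hc1 (Subtype.ext (orderOf_eq_one_iff.1 (by rw [hk, h, pow_zero])))
  set c' := c ^ p ^ (k - 1) with hc'
  have hord : orderOf c' = p := by
    rw [hc', orderOf_pow' c (pow_ne_zero _ hp.out.ne_zero), hk, Nat.gcd_eq_right (pow_dvd_pow _ (Nat.sub_le k 1)),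
      Nat.pow_div (Nat.sub_le k 1) hp.out.pos, show k - (k - 1) = 1 by omega, pow_one]
  have hc'm := pow_mem hc (p ^ (k - 1))
  rw [← hc'] at hc'm
  obtain ⟨m, hm, e⟩ := mem_subgroupOf.1 hc'm.2
  refine ⟨m, hm, fun hmD => hp.out.one_lt.ne' ?_, ?_, fun r hr => ?_⟩
  · rw [← hord, orderOf_eq_one_iff]
    exact Subtype.ext (e.symm.trans ((QuotientGroup.eq_one_iff _).2 hmD))
  · have h : c' ^ p = 1 := by rw [← hord]; exact pow_orderOf_eq_one c'
    rw [← QuotientGroup.eq_one_iff, ← QuotientGroup.mk'_apply, map_pow, e]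
    exact congrArg Subtype.val h
  · have h : q r * q m = q m * q r := by
      rw [e]
      exact congrArg Subtype.val (mem_center_iff.1 hc'm.1 ⟨q r, mem_map_of_mem q hr⟩)
    rw [← QuotientGroup.eq_one_iff, ← QuotientGroup.mk'_apply, map_mul, map_mul, map_mul, map_inv, map_inv]
    show q r * q m * (q r)⁻¹ * (q m)⁻¹ = 1
    rw [h, mul_inv_cancel_right, mul_inv_cancel]

variable {S : Sylow p G} {Z D J U R H : Subgroup G}

theorem Bad.real_subgroup (hb : Bad S Z D J U R H) {K : Subgroup G} (hK : K ≤ H) (h : HoldsOn R (Real Z) K)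
    {g : G} (hg : g ∈ K) : Real Z U g := by
  refine h U g hg hb.UR ?_
  rw [map_conj_eq_self_iff.2 (hb.HU (hK hg))]
  exact hb.UR

/-- In a bad configuration some element of `R` outside `U` is quadratic on the normal closure. -/
theorem Bad.exists_quadratic (hp2 : p ≠ 2) (hc : Core S Z D J) (hZ : Z = centerJ 0 (S : Subgroup G))
    (hJ : J = thompson 0 (S : Subgroup G)) (hb : Bad S Z D J U R H) {v : G} (hv : v ∈ U ⊓ Z) (hvD : v ∉ D)
    {X : Subgroup G} (hDX : D ≤ X) (hvX : v ∈ X) (hXU : X ≤ U) (hXn : H ≤ normalizer (X : Set G))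
    (hXc : ∀ x ∈ X, ∀ u ∈ U, u * x * u⁻¹ * x⁻¹ ∈ D)
    (hXmin : ∀ Y : Subgroup G, D ≤ Y → v ∈ Y → H ≤ normalizer (Y : Set G) → X ≤ Y) :
    ∃ a ∈ R, a ∉ U ∧ ∀ x ∈ X,
      a * (a * x * a⁻¹ * x⁻¹) * a⁻¹ * (a * x * a⁻¹ * x⁻¹)⁻¹ ∈ D := by
  haveI := hc.dnormal
  have hRp : IsPGroup p R := S.2.to_le hb.RS
  by_cases hJR : J ≤ R
  swap
  · -- in `G / D`
    set q := QuotientGroup.mk' D with hq
    set P := R.map q with hP
    set B := X.map q with hB
    set V₀ := U.map q with hV₀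
    have hPp : IsPGroup p P := hRp.map q
    have hBP : B ≤ P := Subgroup.map_mono (hXU.trans hb.UR)
    have hPB : P ≤ normalizer (B : Set (G ⧸ D)) :=
      (Subgroup.map_mono (hb.RH.trans hXn)).trans (X.le_normalizer_map q)
    have hBc : ∀ b ∈ B, ∀ u ∈ V₀, u * b = b * u := by
      rintro _ ⟨x, hx, rfl⟩ _ ⟨u, hu, rfl⟩
      refine commutatorElement_eq_one_iff_mul_comm.1 ?_
      rw [← map_commutatorElement, commutatorElement_def]
      exact (QuotientGroup.eq_one_iff _).2 (hXc x hx u hu)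
    have hBB : ⁅B, B⁆ = ⊥ := by
      rw [Subgroup.commutator_eq_bot_iff_le_centralizer]
      exact fun b hb' => mem_centralizer_iff.2 fun c hc' => hBc b hb' c (Subgroup.map_mono hXU hc')
    by_cases hout : ∃ A, IsMaxElemIn 0 P A ∧ B ≤ normalizer (A : Set (G ⧸ D)) ∧ ¬ A ≤ V₀
    · obtain ⟨A, hA, hBA, hAV⟩ := hout
      obtain ⟨_, ha', hanot⟩ := SetLike.not_le_iff_exists.1 hAV
      obtain ⟨a, ha, rfl⟩ := hA.le ha'
      refine ⟨a, ha, fun h => hanot (mem_map_of_mem q h), fun x hx => ?_⟩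
      rw [← QuotientGroup.eq_one_iff, ← QuotientGroup.mk'_apply, ← hq]
      have h1 : q (a * x * a⁻¹ * x⁻¹) ∈ A := by
        have h2 := mul_mem ha' (conj_mem_of_mem_normalizer (hBA (mem_map_of_mem q hx)) (inv_mem ha'))
        simpa [map_mul, mul_assoc] using h2
      rw [map_mul, map_mul, map_mul _ a, map_inv, map_inv, elemAb_commute hA.elem ha' h1,
        mul_inv_cancel_right, mul_inv_cancel]
    · exfalso
      push Not at hout
      -- every member lies in the image of `U`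
      have hall : ∀ A, IsMaxElemIn 0 P A → A ≤ V₀ := by
        by_contra hno
        push Not at hno
        obtain ⟨A₀, hA₀, hA₀V⟩ := hno
        obtain ⟨A, ⟨hA, hAV⟩, hmax⟩ := Set.exists_max_image {A | IsMaxElemIn 0 P A ∧ ¬ A ≤ V₀}
          (fun A => Nat.card (A ⊓ B : Subgroup (G ⧸ D))) (Set.toFinite _) ⟨A₀, hA₀, hA₀V⟩
        obtain ⟨A', h1, -, h3, h4, -⟩ := exists_maxElemIn_replacement hPp le_rfl le_normalizer hBP hPB hA
          (hBB ▸ bot_le) (fun h => absurd h hp2) (Or.inl rfl) (fun h => hAV (hout A hA h))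
        have hA'V : A' ≤ V₀ := by
          by_contra h
          exact (hmax A' ⟨h1, h⟩).not_gt (card_lt_of_lt h3)
        refine h4.ne (inf_eq_right.2 fun b hb' => ?_)
        exact h1.mem_of_centralizes (hBP hb') (pow_zero b) fun a ha => hBc b hb' a (hA'V ha)
      set V := (thompson 0 P).comap q with hV
      have hVR : V ≤ R := by
        refine (comap_mono (thompson_le 0 P)).trans (le_of_eq ?_)
        rw [hP, comap_map_eq, QuotientGroup.ker_mk', sup_eq_left]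
        exact hb.DU.trans hb.UR
      have hDV : D ≤ V := fun d hd => by
        rw [hV, mem_comap, hq, QuotientGroup.mk'_apply, (QuotientGroup.eq_one_iff d).2 hd]
        exact one_mem _
      have hvV : v ∈ V := by
        obtain ⟨A, hA⟩ := exists_isMaxElemIn 0 P
        exact hA.le_thompson (hA.mem_of_centralizes (hBP (mem_map_of_mem q hvX)) (pow_zero _)
          fun a ha => hBc _ (mem_map_of_mem q hvX) a (hall A hA ha))
      have hVN : ∀ {g : G}, q g ∈ normalizer (thompson 0 P : Set (G ⧸ D)) → g ∈ normalizer (V : Set G) :=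
        fun {g} hg => mem_normalizer_iff.2 fun x => by
          rw [hV, mem_comap, mem_comap, map_mul, map_mul, map_inv]
          exact mem_normalizer_iff.1 hg (q x)
      have hTJ : thompson 0 P = thompson 0 V₀ :=
        (thompson_eq_of_le (Subgroup.map_mono hb.UR) ((thompson_le_iff).2 hall)).symm
      refine hb.climb hJR V hDV (fun h => hvD (h ⟨hvV, hv.2⟩)) hVR
        (fun s hs => hVN (normalizer_le_normalizer_thompson 0 P (R.le_normalizer_map q ⟨s, hs.2, rfl⟩)))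
        fun h hh => hVN ?_
      rw [hTJ]
      exact normalizer_le_normalizer_thompson 0 V₀ (U.le_normalizer_map q ⟨h, hb.HU hh, rfl⟩)
  -- `R = S`
  have hRS := hb.top hJR
  have hDS : D ≤ (S : Subgroup G) := hc.dle.trans hc.le
  have hXS : X ≤ (S : Subgroup G) := hXU.trans (hb.UR.trans hb.RS)
  have hSX : (S : Subgroup G) ≤ normalizer (X : Set G) := fun s hs => hXn (hb.RH (hRS ▸ hs))
  have hXX : ⁅X, X⁆ ≤ D := commutator_le.2 fun a ha b hb' => by
    rw [commutatorElement_def]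
    exact hXc b hb' a (hXU ha)
  have hZA : ∀ A, IsMaxElemIn 0 (S : Subgroup G) A → Z ≤ A := fun A hA => by
    rw [hZ, ← zj_zero]; exact zj_le_of_isMaxElemIn hA
  have hXA : ∀ A, IsMaxElemIn 0 (S : Subgroup G) A → ⁅X, X⁆ ≤ A := fun A hA =>
    hXX.trans (hc.dle.trans (hZA A hA))
  by_cases hout : ∃ A, IsMaxElemIn 0 (S : Subgroup G) A ∧ X ≤ normalizer (A : Set G) ∧ ¬ A ≤ U
  · obtain ⟨A, hA, hXA', hAU⟩ := hout
    obtain ⟨a, ha, haU⟩ := SetLike.not_le_iff_exists.1 hAU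
    refine ⟨a, hRS ▸ hA.le ha, haU, fun x hx => ?_⟩
    have h1 : a * x * a⁻¹ * x⁻¹ ∈ A := by
      simpa [mul_assoc] using mul_mem ha (conj_mem_of_mem_normalizer (hXA' hx) (inv_mem ha))
    rw [elemAb_commute hA.elem ha h1, mul_inv_cancel_right, mul_inv_cancel]
    exact one_mem _
  exfalso
  push Not at hout
  obtain ⟨A₁, hA₁, hXA₁⟩ : ∃ A, IsMaxElemIn 0 (S : Subgroup G) A ∧ X ≤ normalizer (A : Set G) := by
    obtain ⟨A₀, hA₀⟩ := exists_isMaxElemIn 0 (S : Subgroup G)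
    by_cases h : X ≤ A₀
    · exact ⟨A₀, hA₀, h.trans le_normalizer⟩
    · obtain ⟨A, h1, -, -, h4⟩ := exists_maxElemIn_normalized S.isPGroup' le_rfl le_normalizer hXS hSX hA₀
        (hXA A₀ hA₀) (fun h2 => absurd h2 hp2) (Or.inl rfl) h
      exact ⟨A, h1, h4⟩
  have hUS : U ≤ (S : Subgroup G) := hb.UR.trans hb.RS
  have hA₁U := hout A₁ hA₁ hXA₁
  have hZL : Z ≤ zj 0 U := by rw [hZ, ← zj_zero]; exact zj_le_zj hUS hA₁ hA₁U
  have hXL : X ≤ zj 0 U := hXmin _ (hc.dle.trans hZL) (hZL hv.2) (hb.HU.trans (normalizer_le_normalizer_zj 0 U))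
  have hall : thompson 0 (S : Subgroup G) ≤ U := by
    refine thompson_le_iff.2 ?_
    by_contra hno
    push Not at hno
    obtain ⟨A₀, hA₀, hA₀V⟩ := hno
    obtain ⟨A, ⟨hA, hAV⟩, hmax⟩ := Set.exists_max_image {A | IsMaxElemIn 0 (S : Subgroup G) A ∧ ¬ A ≤ U}
      (fun A => Nat.card (A ⊓ X : Subgroup G)) (Set.toFinite _) ⟨A₀, hA₀, hA₀V⟩
    obtain ⟨A', h1, -, h3, h4, -⟩ := exists_maxElemIn_replacement S.isPGroup' le_rfl le_normalizer hXS hSX hA
      (hXA A hA) (fun h => absurd h hp2) (Or.inl rfl) (fun h => hAV (hout A hA h))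
    have hA'U : A' ≤ U := by
      by_contra h
      exact (hmax A' ⟨h1, h⟩).not_gt (card_lt_of_lt h3)
    exact h4.ne (inf_eq_right.2 (hXL.trans (zj_le_of_isMaxElemIn (h1.restrict hUS hA'U))))
  refine hb.bad fun A g hg _ _ => real_of_mem ?_
  rw [hZ, ← centerJ_eq_of_le hUS hall]
  exact normalizer_le_normalizer_centerJ 0 U (hb.HU hg)

/-- A bad configuration yields the conclusion. -/
theorem Bad.witness (hp2 : p ≠ 2) (hc : Core S Z D J) (hZ : Z = centerJ 0 (S : Subgroup G))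
    (hJ : J = thompson 0 (S : Subgroup G)) (hb : Bad S Z D J U R H) : Witness p Z := by
  classical
  haveI := hc.dnormal
  set q := QuotientGroup.mk' D with hq
  have hqe : ∀ {x : G}, q x = 1 ↔ x ∈ D := fun {x} => QuotientGroup.eq_one_iff x
  have hRp : IsPGroup p R := S.2.to_le hb.RS
  have hUH : U ≤ H := hb.UR.trans hb.RH
  have hRNU : R ≤ normalizer (U : Set G) := hb.RH.trans hb.HU
  have hRNZ : R ≤ normalizer (Z : Set G) := hb.RS.trans hc.norm
  obtain ⟨v, hv, hvD, hvp, hvR⟩ := exists_fixed_mod (D := D) hRp (inf_le_left.trans hb.UR)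
    (fun r hr => Techniques.mem_normalizer_inf (hRNU hr) (hRNZ hr)) hb.UZ
  -- the line
  set V1 := zpowers v ⊔ D with hV1
  have hDV1 : D ≤ V1 := le_sup_right
  have hvV1 : v ∈ V1 := le_sup_left (b := D) (mem_zpowers v)
  have hfix : ∀ g : G, g * v * g⁻¹ * v⁻¹ ∈ D → g ∈ normalizer (V1 : Set G) := by
    intro g hg
    refine map_conj_eq_self_iff.1 (eq_of_le_of_card_ge ?_ (card_map_conj _ _).ge)
    rw [hV1, Subgroup.map_sup, MonoidHom.map_zpowers]
    refine sup_le ?_ ((map_conj_eq_self_iff.2 (by rw [Subgroup.normalizer_eq_top D]; trivial)).le.trans le_sup_right)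
    rw [zpowers_le]
    simpa [mul_assoc] using mul_mem (hDV1 hg) hvV1
  have hline : HoldsOn R (Real Z) (H ⊓ normalizer (V1 : Set G)) :=
    hb.line V1 hDV1 (fun h => hvD (h hvV1)) (sup_le (zpowers_le.2 hv) (le_inf hb.DU hc.dle))
      fun r hr => hfix r (hvR r hr)
  -- normal subgroups fixing the line meet `R` inside `U`
  have hkill : ∀ N₁ : Subgroup G, N₁ ≤ H → H ≤ normalizer (N₁ : Set G) → N₁ ≤ normalizer (V1 : Set G) →
      U ≤ N₁ → R ⊓ N₁ ≤ U := by
    intro N₁ h1 h2 h3 h4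
    by_contra hlt
    refine hb.bad (holdsOn_of_normal hb.RH hRp hb.idx h1 h2 (hline.mono le_rfl ?_) ?_)
    · exact sup_le (le_inf h1 h3) (le_inf hb.RH fun r hr => hfix r (hvR r hr))
    · exact hb.bigger _ (lt_of_le_of_ne (le_inf hb.UR h4) fun e => hlt e.ge) inf_le_left
        fun r hr => Techniques.mem_normalizer_inf (le_normalizer hr) (h2 (hb.RH hr))
  -- the normal closure
  set X : Subgroup G := sInf {Y | D ≤ Y ∧ v ∈ Y ∧ H ≤ normalizer (Y : Set G)} with hX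
  have hXmin : ∀ Y : Subgroup G, D ≤ Y → v ∈ Y → H ≤ normalizer (Y : Set G) → X ≤ Y :=
    fun Y h1 h2 h3 => sInf_le ⟨h1, h2, h3⟩
  have hDX : D ≤ X := le_sInf fun Y hY => hY.1
  have hvX : v ∈ X := mem_sInf.2 fun Y hY => hY.2.1
  have hXn : H ≤ normalizer (X : Set G) := by
    intro g hg
    refine mem_normalizer_iff.2 fun x => ?_
    rw [hX, mem_sInf, mem_sInf]
    exact forall₂_congr fun Y hY => mem_normalizer_iff.1 (hY.2.2 hg) x
  let Y₁ : Subgroup G :=
    { carrier := {x | x ∈ U ∧ (∀ u ∈ U, Commute (q u) (q x)) ∧ q x ^ p = 1}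
      one_mem' := ⟨one_mem _, fun u _ => by simp, by simp⟩
      mul_mem' := by
        rintro a b ⟨ha, ha', ha''⟩ ⟨hb', hb'', hb'''⟩
        refine ⟨mul_mem ha hb', fun u hu => by rw [map_mul]; exact (ha' u hu).mul_right (hb'' u hu), ?_⟩
        rw [map_mul, (hb'' a ha).mul_pow, ha'', hb''', one_mul]
      inv_mem' := by
        rintro a ⟨ha, ha', ha''⟩
        exact ⟨inv_mem ha, fun u hu => by rw [map_inv]; exact (ha' u hu).inv_right,
          by rw [map_inv, inv_pow, ha'', inv_one]⟩ }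
  have hXY : X ≤ Y₁ := by
    refine hXmin _ (fun d hd => ?_) ⟨hv.1, fun u hu => ?_, ?_⟩ ?_
    · have h1 : q d = 1 := hqe.2 hd
      exact ⟨hb.DU hd, fun u _ => by rw [h1]; exact Commute.one_right _, by rw [h1, one_pow]⟩
    · have h := hqe.2 (hvR u (hb.UR hu))
      rw [map_mul, map_mul, map_mul, map_inv, map_inv] at h
      exact mul_inv_eq_iff_eq_mul.1 (mul_inv_eq_one.1 h)
    · rw [← map_pow]; exact hqe.2 hvp
    · intro g hg
      refine map_conj_eq_self_iff.1 (eq_of_le_of_card_ge (map_conj_le_iff.2 ?_) (card_map_conj _ _).ge)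
      rintro x ⟨hx, hx', hx''⟩
      refine ⟨(mem_normalizer_iff.1 (hb.HU hg) x).1 hx, fun u hu => ?_, ?_⟩
      · have h := (hx' _ ((mem_normalizer_iff.1 (inv_mem (hb.HU hg)) u).1 hu)).map (MulAut.conj (q g))
        simpa [mul_assoc] using h
      · rw [map_mul, map_mul, map_inv, conj_pow, hx'', mul_one, mul_inv_cancel]
  have hXU : X ≤ U := hXY.trans fun x hx => hx.1
  have hXc : ∀ x ∈ X, ∀ u ∈ U, u * x * u⁻¹ * x⁻¹ ∈ D := fun x hx u hu => hqe.1 (by
    rw [map_mul, map_mul, map_mul, map_inv, map_inv, ((hXY hx).2.1 u hu).eq, mul_inv_cancel_right, mul_inv_cancel])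
  obtain ⟨a, haR, haU, haq⟩ := hb.exists_quadratic hp2 hc hZ hJ hv hvD hDX hvX hXU hXn hXc hXmin
  obtain ⟨W, _, _, _, Γ, _, _, π, ρ, ν, hπ, hρ, hν, hνD, hconj⟩ :=
    exists_rep p hXn (fun x hx y hy => hXc y hy x (hXU hx)) fun x hx => hqe.1 (by
      rw [map_pow]; exact (hXY hx).2.2)
  set w₀ := Multiplicative.toAdd (ν ⟨v, hvX⟩) with hw₀
  have hνeq : ∀ x y : X, ν x = ν y ↔ (x : G) * (y : G)⁻¹ ∈ D := fun x y => by
    rw [← mul_inv_eq_one, ← map_inv, ← map_mul, hνD]; rfl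
  have hfixiff : ∀ g : H, ρ (π g) w₀ = w₀ ↔ (g : G) * v * (g : G)⁻¹ * v⁻¹ ∈ D := fun g => by
    obtain ⟨hx, e⟩ := hconj g ⟨v, hvX⟩
    rw [hw₀, ← e, Multiplicative.toAdd.injective.eq_iff, hνeq]
  have hker1 : ∀ g : H, (∀ x ∈ X, (g : G) * x * (g : G)⁻¹ * x⁻¹ ∈ D) → π g = 1 := fun g hg => by
    refine hρ (LinearMap.ext fun w => ?_)
    obtain ⟨x, hx⟩ := hν (Multiplicative.ofAdd w)
    obtain ⟨hx', e⟩ := hconj g x
    rw [map_one, Module.End.one_apply, show w = Multiplicative.toAdd (ν x) by rw [hx]; rfl, ← e]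
    exact congrArg _ ((hνeq _ _).2 (hg x x.2))
  have hπU : ∀ (u : G) (hu : u ∈ U), π ⟨u, hUH hu⟩ = 1 := fun u hu => hker1 _ fun x hx => hXc x hx u hu
  -- good elements
  have hstabg : ∀ g : H, ρ (π g) w₀ = w₀ → Real Z U g := fun g hg =>
    hb.real_subgroup inf_le_left hline ⟨g.2, hfix g ((hfixiff g).1 hg)⟩
  let Gd : Subgroup H :=
    { carrier := {g | Real Z U (g : G)}
      one_mem' := real_of_mem (one_mem _)
      mul_mem' := fun {g g'} h h' => by
        refine Real.comp h' ?_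
        rw [map_conj_eq_self_iff.2 (hb.HU g'.2)]
        exact h
      inv_mem' := fun {g} h => by
        have := h.symm
        rwa [map_conj_eq_self_iff.2 (hb.HU g.2)] at this }
  set Γ₀ := Gd.map π with hΓ₀
  have hreal : ∀ g : H, π g ∈ Γ₀ → Real Z U g := by
    rintro g ⟨g', hg', e⟩
    have h1 : (g'⁻¹ * g) ∈ Gd := hstabg _ (by rw [map_mul, map_inv, e, inv_mul_cancel, map_one]; rfl)
    have h2 := mul_mem (show g' ∈ Gd from hg') h1
    rwa [mul_inv_cancel_left] at h2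
  set RH := R.subgroupOf H with hRH
  set P := RH.map π with hP
  have hRGd : RH ≤ Gd := fun g hg => real_of_mem (hRNZ hg)
  have hPΓ : P ≤ Γ₀ := Subgroup.map_mono hRGd
  have hPp : IsPGroup p P := (hRp.comap_of_injective H.subtype H.subtype_injective).map π
  have hPidx : ¬ p ∣ P.index := fun h => hb.idx (h.trans (RH.index_map_dvd hπ))
  have hPv : ∀ γ ∈ P, ρ γ w₀ = w₀ := by
    rintro _ ⟨g, hg, rfl⟩
    exact (hfixiff g).2 (hvR g hg)
  -- the preimage of a subgroup of `P`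
  have hpre : ∀ Q : Subgroup Γ, Q ≤ P → ((Q.comap π).map H.subtype) ≤ normalizer (V1 : Set G) := by
    rintro Q hQ _ ⟨g, hg, rfl⟩
    exact hfix g ((hfixiff g).1 (hPv _ (hQ hg)))
  have hUpre : ∀ Q : Subgroup Γ, U ≤ (Q.comap π).map H.subtype := fun Q u hu =>
    ⟨⟨u, hUH hu⟩, by rw [SetLike.mem_coe, mem_comap, hπU u hu]; exact one_mem _, rfl⟩
  set a' : H := ⟨a, hb.RH haR⟩ with ha'
  have hnorm : ∀ O : Subgroup Γ, O.Normal → O ≤ P → R ⊓ (O.comap π).map H.subtype ≤ U := by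
    intro O hO hOP
    haveI : (O.comap π).Normal := hO.comap π
    refine hkill _ (map_subtype_le _) ?_ (hpre O hOP) (hUpre O)
    refine (normal_subgroupOf_iff_le_normalizer (map_subtype_le _)).1 ?_
    rwa [subgroupOf, comap_map_eq_self_of_injective H.subtype_injective]
  have ha : (ρ (π a') - 1) * (ρ (π a') - 1) = 0 := by
    refine LinearMap.ext fun w => ?_
    obtain ⟨x, hx⟩ := hν (Multiplicative.ofAdd w)
    obtain ⟨h1, e1⟩ := hconj a' x
    set y : X := ⟨_, h1⟩ * x⁻¹ with hy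
    obtain ⟨h2, e2⟩ := hconj a' y
    have hw : w = Multiplicative.toAdd (ν x) := by rw [hx]; rfl
    have hd : (ρ (π a') - 1) w = Multiplicative.toAdd (ν y) := by
      rw [hy, map_mul, map_inv, toAdd_mul, toAdd_inv, e1, ← hw, LinearMap.sub_apply, Module.End.one_apply, sub_eq_add_neg]
    rw [Module.End.mul_apply, hd, LinearMap.sub_apply, Module.End.one_apply, ← e2, LinearMap.zero_apply,
      sub_eq_zero, Multiplicative.toAdd.injective.eq_iff, hνeq]
    exact haq x x.2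
  have hna : π a' ∉ Cfsg.pCore p Γ := fun h => haU (by
    have hOP : Cfsg.pCore p Γ ≤ P := CfsgLib.PCore.pCore_le_sylow (hPp.toSylow hPidx)
    exact hnorm _ inferInstance hOP ⟨haR, a', h, rfl⟩)
  have haP : π a' ∈ P := mem_map_of_mem π (show a' ∈ RH from haR)
  let V₁ : AddSubgroup W :=
    { carrier := {w | ∃ x : X, (x : G) ∈ Z ∧ Multiplicative.toAdd (ν x) = w}
      zero_mem' := ⟨1, one_mem _, by rw [map_one]; rfl⟩
      add_mem' := by
        rintro _ _ ⟨x, hx, rfl⟩ ⟨y, hy, rfl⟩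
        exact ⟨x * y, mul_mem hx hy, by rw [map_mul]; rfl⟩
      neg_mem' := by
        rintro _ ⟨x, hx, rfl⟩
        exact ⟨x⁻¹, inv_mem hx, by rw [map_inv]; rfl⟩ }
  have hZconj : ∀ g : H, Real Z U g → ∀ x ∈ X, x ∈ Z → (g : G) * x * (g : G)⁻¹ ∈ Z := by
    rintro g ⟨y, hy, e⟩ x hxX hxZ
    rw [← e x (hXU hxX)]
    exact (mem_normalizer_iff.1 hy x).1 hxZ
  have hV₁ : ∀ γ ∈ Γ₀, ∀ w ∈ V₁, ρ γ w ∈ V₁ := by
    rintro γ hγ _ ⟨x, hx, rfl⟩
    obtain ⟨g, rfl⟩ := hπ γ
    obtain ⟨h1, e⟩ := hconj g x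
    exact ⟨⟨_, h1⟩, hZconj g (hreal g hγ) x x.2 hx, e⟩
  have hstab : Γ₀ ≠ ⊤ → ∀ γ, ρ γ w₀ = w₀ → γ ∈ Γ₀ := fun _ γ hγ => by
    obtain ⟨g, rfl⟩ := hπ γ
    exact mem_map_of_mem π (show g ∈ Gd from hstabg g hγ)
  have htop : Γ₀ = ⊤ → V₁ = ⊤ := by
    intro h
    have hXZ : X ≤ X ⊓ Z := hXmin _ (le_inf hDX hc.dle) ⟨hvX, hv.2⟩ fun g hg =>
      map_conj_eq_self_iff.1 (eq_of_le_of_card_ge (map_conj_le_iff.2 fun x hx =>
        ⟨(mem_normalizer_iff.1 (hXn hg) x).1 hx.1,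
          hZconj ⟨g, hg⟩ (hreal _ (by rw [h]; trivial)) x hx.1 hx.2⟩) (card_map_conj _ _).ge)
    refine eq_top_iff.2 fun w _ => ?_
    obtain ⟨x, hx⟩ := hν (Multiplicative.ofAdd w)
    exact ⟨x, (hXZ x.2).2, by rw [hx]; rfl⟩
  have hN : Γ₀ ≠ ⊤ → normalizer ((closure ({c | (ρ c - 1) * (ρ c - 1) = 0} ∩ P) : Subgroup Γ) : Set Γ) ≤ Γ₀ := by
    intro _ γ hγ
    set Q := closure ({c | (ρ c - 1) * (ρ c - 1) = 0} ∩ (P : Set Γ)) with hQ
    have hQP : Q ≤ P := (closure_le _).2 Set.inter_subset_right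
    have hPQ : P ≤ normalizer (Q : Set Γ) := by
      intro g hg
      refine map_conj_eq_self_iff.1 (eq_of_le_of_card_ge ?_ (card_map_conj _ _).ge)
      rw [hQ, MonoidHom.map_closure]
      refine closure_mono ?_
      rintro _ ⟨c, ⟨hc1, hc2⟩, rfl⟩
      exact ⟨quad_conj ρ hc1 g, mul_mem (mul_mem hg hc2) (inv_mem hg)⟩
    set M := Q.comap π with hM
    set K' := RH ⊓ M with hK'
    have hMn : RH ≤ normalizer (M : Set H) := fun g hg => mem_normalizer_iff.2 fun x => by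
      rw [hM, mem_comap, mem_comap, map_mul, map_mul, map_inv]
      exact mem_normalizer_iff.1 (hPQ (mem_map_of_mem π hg)) (π x)
    have hidx : ¬ p ∣ K'.relIndex M := by
      set N := normalizer (M : Set H) with hNdef
      haveI : (M.subgroupOf N).Normal := (normal_subgroupOf_iff_le_normalizer le_normalizer).2 le_rfl
      let PS : Sylow p H := (hRp.comap_of_injective H.subtype H.subtype_injective).toSylow (P := RH) hb.idx
      have h1 := Techniques.not_dvd_relIndex_inf_normal (PS.subtype (show (PS : Subgroup H) ≤ N from hMn)) (M.subgroupOf N)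
      have e : (PS.subtype (show (PS : Subgroup H) ≤ N from hMn) : Subgroup N) ⊓ M.subgroupOf N = K'.subgroupOf N :=
        (Subgroup.comap_inf RH M _).symm
      rwa [e, relIndex_subgroupOf le_normalizer] at h1
    have hK'p : IsPGroup p K' := (hRp.comap_of_injective H.subtype H.subtype_injective).to_le inf_le_left
    obtain ⟨g, rfl⟩ := hπ γ
    have hgM : K'.map (MulAut.conj g).toMonoidHom ≤ M := map_conj_le_iff.2 fun x hx => by
      rw [hM, mem_comap, map_mul, map_mul, map_inv]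
      exact (mem_normalizer_iff.1 hγ (π x)).1 hx.2
    obtain ⟨m, hm, hle⟩ := exists_conj_le_sylow_of hgM (isPGroup_map_conj hK'p g) inf_le_right hK'p hidx
    have hmg : m * g ∈ normalizer (K' : Set H) := by
      rw [← map_conj_eq_self_iff]
      refine eq_of_le_of_card_ge ?_ (card_map_conj _ _).ge
      rw [map_conj_mul]; exact hle
    set K := R ⊓ M.map H.subtype with hK
    have hmgK : ((m * g : H) : G) ∈ normalizer (K : Set G) := by
      have h1 := K'.le_normalizer_map H.subtype ⟨m * g, hmg, rfl⟩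
      rwa [hK', map_inf _ _ _ H.subtype_injective, hRH, map_subgroupOf_eq_of_le hb.RH] at h1
    have hUK : U ≤ K := le_inf hb.UR (hUpre Q)
    have haK : a ∈ K := ⟨haR, a', show π a' ∈ Q from subset_closure ⟨ha, haP⟩, rfl⟩
    have hRK : R ≤ normalizer (K : Set G) := fun r hr => Techniques.mem_normalizer_inf (le_normalizer hr)
      (M.le_normalizer_map H.subtype ⟨⟨r, hb.RH hr⟩, hMn (show (⟨r, hb.RH hr⟩ : H) ∈ RH from hr), rfl⟩)
    have hgood : (m * g : H) ∈ Gd := hb.real_subgroup inf_le_left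
      (hb.bigger K (lt_of_le_of_ne hUK fun e => haU (e ▸ haK)) inf_le_left hRK) ⟨(m * g).2, hmgK⟩
    have h2 : π g = (π m)⁻¹ * π (m * g) := by rw [map_mul, inv_mul_cancel_left]
    rw [h2]
    exact mul_mem (inv_mem (hPΓ (hQP hm))) (mem_map_of_mem π hgood)
  have hsyl : ∀ Q ≤ Γ₀, IsPGroup p Q → ∃ γ ∈ Γ₀, Q.map (MulAut.conj γ).toMonoidHom ≤ P := fun Q hQ hQp =>
    exists_conj_le_sylow_of hQ hQp hPΓ hPp fun h => hPidx (h.trans (relIndex_dvd_index_of_le hPΓ))
  obtain ⟨hplane, hweight⟩ := exists_data ρ hp2 hρ Γ₀ P hPp hPΓ hsyl V₁ hV₁ (v := w₀) ⟨⟨v, hvX⟩, hv.2, rfl⟩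
    hPv hstab hN htop ha hna
  refine ⟨involves_of_plane hp2 π ρ ν hπ hρ hν hνD hconj (hb.UR.trans hRNZ)
    (fun g u hu => (mem_normalizer_iff.1 (hb.HU g.2) u).1 hu) hXU hUH hπU hreal hplane, ?_⟩
  obtain ⟨l, hl⟩ := IsCyclic.exists_ofOrder_eq_natCard (α := (ZMod p)ˣ)
  rw [Nat.card_eq_fintype_card, ZMod.card_units] at hl
  obtain ⟨t, ht, _, ⟨z, hzZ, rfl⟩, hne, htu⟩ := hweight l
  obtain ⟨g, rfl⟩ := hπ t
  obtain ⟨y, hy, ey⟩ := hreal g ht
  obtain ⟨hx, e⟩ := hconj g z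
  set k := (l : ZMod p).val with hk
  have hzD : (z : G) ∉ D := fun h => hne (by rw [(hνD z).2 h]; rfl)
  have hyz : y * z * y⁻¹ * ((z : G) ^ k)⁻¹ ∈ D := by
    rw [ey _ (hXU z.2)]
    have h1 := (hνeq ⟨_, hx⟩ (z ^ k)).1 (Multiplicative.toAdd.injective (by
      rw [e, htu, map_pow, toAdd_pow, ← Nat.cast_smul_eq_nsmul (ZMod p), hk, ZMod.natCast_zmod_val]))
    simpa using h1
  obtain ⟨c, hcZ, hco, hyc⟩ := exists_weight_point (S.2.to_le hc.le) hc.comm hc.dle hy hzZ hzD k hyz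
  exact ⟨y, hy, c, hcZ, l, hco, hl, hyc⟩

end CfsgLib.LocalEven.ZJWeight
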