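import Mathlib
import Cfsg.Agent.Lib.LocalEven.ZJWeight.Local

/-!
Either `N(ZJ(S))` controls strong fusion in `S`, or the conclusion about `F(p)` and a weight holds.
-/

set_option autoImplicit false
set_option linter.unusedSectionVars false

namespace CfsgLib.LocalEven.ZJWeight

open Subgroup CfsgLib.Techniques CfsgLib.Techniques.Fusion CfsgLib.PLocal

universe u

variable {p : ℕ} [hp : Fact p.Prime]

theorem map_subtype_normalizer_le {G : Type u} [Group G] {N : Subgroup G} (Z : Subgroup N) :
    (normalizer (Z : Set N)).map N.subtype ≤ normalizer ((Z.map N.subtype : Subgroup G) : Set G) :=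
  Z.le_normalizer_map N.subtype

/-- The conclusion passes from a subgroup to the group. -/
theorem Witness.map_subtype {G : Type u} [Group G] [Finite G] {N : Subgroup G} {Z' : Subgroup N}
    {Z : Subgroup G} (hZ : Z'.map N.subtype = Z) (h : Witness p Z') : Witness p Z := by
  obtain ⟨hinv, y, hy, c, hc, l, h1, h2, h3⟩ := h
  have hle : (normalizer (Z' : Set N)).map N.subtype ≤ normalizer (Z : Set G) := hZ ▸ map_subtype_normalizer_le Z'
  refine ⟨?_, N.subtype y, hle ⟨y, hy, rfl⟩, N.subtype c, hZ ▸ mem_map_of_mem _ hc, l,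
    (orderOf_injective N.subtype N.subtype_injective c).trans h1, h2, ?_⟩
  · refine Involved.involves_of_subgroup (H := ((normalizer (Z' : Set N)).map N.subtype).subgroupOf (normalizer (Z : Set G))) ?_
    let e := (subgroupOfEquivOfLe hle).trans
      ((normalizer (Z' : Set N)).equivMapOfInjective N.subtype N.subtype_injective).symm
    exact Involved.involves_of_surjective e.toMonoidHom e.surjective hinv
  · rw [← map_inv, ← map_mul, ← map_mul, h3, map_pow]

theorem witness_or_holdsOn (hp2 : p ≠ 2) :
    ∀ (n : ℕ) (G : Type u) [Group G] [Finite G] (S : Sylow p G), Nat.card G = n →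
      Witness p (centerJ 0 (S : Subgroup G)) ∨
        HoldsOn (S : Subgroup G) (Real (centerJ 0 (S : Subgroup G))) ⊤ := by
  intro n
  induction n using Nat.strong_induction_on with
  | _ n ih =>
  intro G _ _ S hn
  set Z := centerJ 0 (S : Subgroup G) with hZ
  rw [or_iff_not_imp_left]
  intro hw
  haveI := normalCore_normal Z
  by_cases hZD : Z ≤ Z.normalCore
  · intro A g _ _ _
    refine real_of_mem ?_
    rw [show Z = Z.normalCore from le_antisymm hZD (normalCore_le Z), Subgroup.normalizer_eq_top]
    trivial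
  obtain ⟨z, hz, hzD, -, hzS⟩ := exists_fixed_mod (D := Z.normalCore) S.isPGroup'
    (centerJ_le 0 _) (le_normalizer_centerJ 0 _) hZD
  have hc : Core S Z Z.normalCore (thompson 0 (S : Subgroup G)) :=
    { comm := fun a ha b hb => centralizes_centerJ hb ha.1
      le := centerJ_le 0 _
      norm := le_normalizer_centerJ 0 _
      normS := normalizer_le_normalizer_centerJ 0 _
      dle := normalCore_le Z
      dnormal := normalCore_normal Z
      dmax := fun V hV hVZ => by haveI := hV; exact normal_le_normalCore.2 hVZ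
      fixed := ⟨z, hz, hzD, hzS⟩
      jle := thompson_le 0 _
      jcent := fun j hj z hz => centralizes_centerJ hz hj }
  refine hc.holdsOn_top (fun U hne hU hJR => ?_) fun U R H hb => hw (hb.witness hp2 hc rfl rfl)
  set N := normalizer (U : Set G) with hN
  set R := (S : Subgroup G) ⊓ N with hR
  have hlt : Nat.card N < n := hn ▸ lt_of_le_of_ne N.card_le_card_group fun e => hne (N.eq_top_of_card_eq e)
  let SN : Sylow p N :=
    ((S.2.to_le (inf_le_left : R ≤ (S : Subgroup G))).of_equiv (subgroupOfEquivOfLe inf_le_right).symm).toSylow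
      (P := R.subgroupOf N) hU.2
  have hSN : (SN : Subgroup N).map N.subtype = R := map_subgroupOf_eq_of_le inf_le_right
  have hZeq : (centerJ 0 (SN : Subgroup N)).map N.subtype = Z := by
    rw [← centerJ_map N.subtype_injective, hSN, hZ, centerJ_eq_of_le inf_le_left hJR]
  rcases ih _ hlt N SN rfl with h | h
  · exact absurd (h.map_subtype hZeq) hw
  intro A g hg hA hgA
  have hAN : A ≤ N := hA.trans inf_le_right
  obtain ⟨x, hx, e⟩ := h (A.subgroupOf N) ⟨g, hg⟩ trivial (fun a ha => hA ha) (by
    rintro _ ⟨a, ha, rfl⟩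
    exact hgA ⟨a, ha, rfl⟩)
  exact ⟨x, hZeq ▸ map_subtype_normalizer_le _ ⟨x, hx, rfl⟩, fun a ha =>
    congrArg Subtype.val (e ⟨a, hAN ha⟩ ha)⟩

/-- The main theorem. -/
theorem fusion_failure_structure (hp2 : p ≠ 2) {G : Type u} [Group G] [Finite G] (S : Sylow p G)
    (h : ¬ Cfsg.ControlsStrongFusion p (Cfsg.centerThompsonAOf (S : Subgroup G))) :
    Witness p (Cfsg.centerThompsonAOf (S : Subgroup G)) := by
  rw [centerThompsonAOf_eq] at h ⊢
  refine (witness_or_holdsOn hp2 _ G S rfl).resolve_right fun hall => h ⟨S, centerJ_le 0 _, fun A hA => ⟨hA, fun g hg => ?_⟩⟩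
  obtain ⟨x, hx, e⟩ := hall (closure A) g trivial ((closure_le _).2 hA) (by
    rw [MonoidHom.map_closure, closure_le]
    exact hg)
  exact ⟨x, hx, fun a ha => (e a (subset_closure ha)).symm⟩

end CfsgLib.LocalEven.ZJWeight
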